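import Mathlib.RingTheory.Filtration
import Mathlib.RingTheory.Invariant.Defs
import Mathlib.RingTheory.Finiteness.Ideal
import Mathlib.RingTheory.Ideal.Operations
import Mathlib.Tactic.LinearCombination
import Mathlib.RingTheory.Noetherian.Basic
import Mathlib.Algebra.Ring.Action.Group
import Mathlib.RingTheory.Ideal.Maps
import Mathlib.Algebra.Polynomial.Roots

/-!
# Artin–Rees for rings of invariants of a finite group
-/

set_option autoImplicit false
set_option linter.style.haveILetI false

universe u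

open Polynomial

namespace Groth.L09.InvEtale

variable {R0 R G : Type u} [CommRing R0] [CommRing R] [Algebra R0 R] [Group G] [Finite G] [MulSemiringAction G R]
  [SMulCommClass G R0 R] [Algebra.IsInvariant R0 R G]

omit [Finite G] [SMulCommClass G R0 R] in
theorem mem_map_comap_of_fixed (q : Ideal R) (r : R) (hr : ∀ g : G, g • r = r) (hrq : r ∈ q) :
    r ∈ (q.comap (algebraMap R0 R)).map (algebraMap R0 R) := by
  obtain ⟨c, rfl⟩ := Algebra.IsInvariant.isInvariant (A := R0) r hr
  exact Ideal.mem_map_of_mem _ hrq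

include G in
omit [SMulCommClass G R0 R] in
theorem exists_pow_le_map [IsNoetherianRing R] (q : Ideal R) (hq : ∀ g : G, ∀ r ∈ q, g • r ∈ q) :
    ∃ e : ℕ, q ^ e ≤ (q.comap (algebraMap R0 R)).map (algebraMap R0 R) := by
  classical
  haveI := Fintype.ofFinite G
  refine Ideal.exists_pow_le_of_le_radical_of_fg (fun b hb => ⟨Fintype.card G, ?_⟩) (IsNoetherian.noetherian q)
  set J := (q.comap (algebraMap R0 R)).map (algebraMap R0 R)
  let P : R[X] := ∏ g : G, (X - C (g • b))
  let D : R[X] := P - X ^ Fintype.card G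
  have hP : ∀ g : G, P.map (MulSemiringAction.toRingHom G R g) = P := fun g => by
    rw [Polynomial.map_prod]
    exact Fintype.prod_equiv (Equiv.mulLeft g) _ _ fun h => by simp [smul_smul]
  have hDq : D.map (Ideal.Quotient.mk q) = 0 := by
    rw [Polynomial.map_sub, Polynomial.map_prod, Polynomial.map_pow, map_X, sub_eq_zero,
      ← Finset.card_univ, ← Finset.prod_const]
    refine Finset.prod_congr rfl fun g _ => ?_
    rw [Polynomial.map_sub, map_X, map_C, Ideal.Quotient.eq_zero_iff_mem.2 (hq g b hb), C_0, sub_zero]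
  have hD : D.map (Ideal.Quotient.mk J) = 0 := Polynomial.ext fun i => by
    rw [coeff_map, coeff_zero, Ideal.Quotient.eq_zero_iff_mem]
    refine mem_map_comap_of_fixed (G := G) q _ (fun g => ?_) ?_
    · have h1 : D.map (MulSemiringAction.toRingHom G R g) = D := by
        rw [Polynomial.map_sub, hP, Polynomial.map_pow, map_X]
      conv_rhs => rw [← h1, coeff_map]
      rfl
    · rw [← Ideal.Quotient.eq_zero_iff_mem, ← coeff_map, hDq, coeff_zero]
  have h0 : P.eval b = 0 := by
    rw [eval_prod]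
    exact Finset.prod_eq_zero (Finset.mem_univ (1 : G)) (by simp)
  have h1 := congrArg (Polynomial.eval (Ideal.Quotient.mk J b)) hD
  rw [eval_map, eval₂_at_apply, eval_zero, eval_sub, h0, eval_pow, eval_X, zero_sub, map_neg, neg_eq_zero] at h1
  exact Ideal.Quotient.eq_zero_iff_mem.1 h1

variable [IsNoetherianRing R0] [Module.Finite R0 R]

omit [Finite G] [SMulCommClass G R0 R] [Algebra.IsInvariant R0 R G] [IsNoetherianRing R0] [Module.Finite R0 R] in
theorem mem_smul_top_of_mem_pow {q : Ideal R} {q0 : Ideal R0} {e n : ℕ}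
    (he : q ^ e ≤ q0.map (algebraMap R0 R)) {r : R} (hr : r ∈ q ^ (e * n)) :
    r ∈ q0 ^ n • (⊤ : Submodule R0 R) := by
  rw [Ideal.smul_top_eq_map, Submodule.restrictScalars_mem, Ideal.map_pow]
  rw [pow_mul] at hr
  exact Ideal.pow_right_mono he n hr

include G in
omit [SMulCommClass G R0 R] in
theorem exists_comap_pow_le (q : Ideal R) (hq : ∀ g : G, ∀ r ∈ q, g • r ∈ q)
    (hinj : Function.Injective (algebraMap R0 R)) (n : ℕ) :
    ∃ N : ℕ, ∀ c : R0, algebraMap R0 R c ∈ q ^ N → c ∈ (q.comap (algebraMap R0 R)) ^ n := by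
  haveI : IsNoetherianRing R := IsNoetherianRing.of_finite R0 R
  obtain ⟨e, he⟩ := exists_pow_le_map (R0 := R0) q hq
  set q0 := q.comap (algebraMap R0 R)
  obtain ⟨k, hk⟩ := q0.exists_pow_inf_eq_pow_smul (LinearMap.range (Algebra.linearMap R0 R))
  refine ⟨e * (n + k), fun c hc => ?_⟩
  have h1 : algebraMap R0 R c ∈ q0 ^ (n + k) • (⊤ : Submodule R0 R) ⊓ LinearMap.range (Algebra.linearMap R0 R) :=
    ⟨mem_smul_top_of_mem_pow he hc, c, rfl⟩
  rw [hk _ (Nat.le_add_left k n), Nat.add_sub_cancel] at h1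
  have h2 : algebraMap R0 R c ∈ (q0 ^ n • (⊤ : Submodule R0 R0)).map (Algebra.linearMap R0 R) := by
    rw [Submodule.map_smul'', Submodule.map_top]
    exact Submodule.smul_mono le_rfl inf_le_right h1
  obtain ⟨c', hc', hcc⟩ := h2
  obtain rfl := hinj hcc
  simpa [smul_eq_mul] using hc'

/-- An element almost fixed by the group is almost invariant. -/
theorem exists_inv_approx (q : Ideal R) (hq : ∀ g : G, ∀ r ∈ q, g • r ∈ q) (n : ℕ) :
    ∃ N : ℕ, ∀ b : R, (∀ g : G, g • b - b ∈ q ^ N) → ∃ c : R0, b - algebraMap R0 R c ∈ q ^ n := by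
  classical
  haveI := Fintype.ofFinite G
  haveI : IsNoetherianRing R := IsNoetherianRing.of_finite R0 R
  obtain ⟨e, he⟩ := exists_pow_le_map (R0 := R0) q hq
  set q0 := q.comap (algebraMap R0 R)
  let d : R →ₗ[R0] (G → R) := LinearMap.pi fun g => (MulSemiringAction.toAlgHom R0 R g).toLinearMap - LinearMap.id
  obtain ⟨k, hk⟩ := q0.exists_pow_inf_eq_pow_smul (LinearMap.range d)
  refine ⟨e * (n + k), fun b hb => ?_⟩
  have h1 : d b ∈ q0 ^ (n + k) • (⊤ : Submodule R0 (G → R)) ⊓ LinearMap.range d := by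
    refine ⟨?_, b, rfl⟩
    rw [← Finset.univ_sum_single (d b)]
    refine Submodule.sum_mem _ fun g _ => ?_
    have h2 := Submodule.mem_map_of_mem (f := LinearMap.single R0 (fun _ : G => R) g)
      (mem_smul_top_of_mem_pow he (hb g))
    rw [Submodule.map_smul''] at h2
    exact Submodule.smul_mono le_rfl le_top h2
  rw [hk _ (Nat.le_add_left k n), Nat.add_sub_cancel] at h1
  have h2 : d b ∈ (q0 ^ n • (⊤ : Submodule R0 R)).map d := by
    rw [Submodule.map_smul'', Submodule.map_top]
    exact Submodule.smul_mono le_rfl inf_le_right h1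
  obtain ⟨b', hb', hdb⟩ := h2
  have hfix : ∀ g : G, g • (b - b') = b - b' := fun g => by
    have h3 := congrFun hdb g
    simp only [d, LinearMap.pi_apply, LinearMap.sub_apply, AlgHom.toLinearMap_apply,
      MulSemiringAction.toAlgHom_apply, LinearMap.id_apply] at h3
    rw [smul_sub]
    linear_combination -h3
  obtain ⟨c, hc⟩ := Algebra.IsInvariant.isInvariant (A := R0) _ hfix
  refine ⟨c, ?_⟩
  rw [hc, sub_sub_cancel]
  rw [SetLike.mem_coe, Ideal.smul_top_eq_map, Submodule.restrictScalars_mem, Ideal.map_pow] at hb'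
  exact Ideal.pow_right_mono Ideal.map_comap_le n hb'

end Groth.L09.InvEtale
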