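import Groth.Agent.L05.SmoothCrit.EtaleAt
import Mathlib.RingTheory.Etale.Kaehler
import Mathlib.RingTheory.Flat.FaithfullyFlat.Algebra
import Mathlib.RingTheory.Unramified.LocalRing

/-!
# Cancellation of étale points on the source
-/

set_option autoImplicit false
set_option linter.style.haveILetI false

universe u

open IsLocalRing TensorProduct

namespace Groth.L09.InvEtale

/-- A flat module over a faithfully flat algebra is flat over the base if the algebra is. -/
theorem flat_of_faithfullyFlat_comp {R S T : Type u} [CommRing R] [CommRing S] [CommRing T] [Algebra R S]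
    [Algebra S T] [Algebra R T] [IsScalarTower R S T] [Module.FaithfullyFlat S T] [Module.Flat R T] :
    Module.Flat R S := by
  rw [Module.Flat.iff_lTensor_preserves_injective_linearMap]
  intro N M _ _ _ _ f hf
  have h1 := Module.Flat.lTensor_preserves_injective_linearMap (M := T) f hf
  let fS : S ⊗[R] N →ₗ[S] S ⊗[R] M := f.baseChange S
  have hc : ∀ z, AlgebraTensorModule.cancelBaseChange R S S T M (fS.lTensor T z) =
      f.lTensor T (AlgebraTensorModule.cancelBaseChange R S S T N z) := by
    intro z
    induction z with
    | zero => simp
    | add a b ha hb => simp only [map_add, ha, hb]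
    | tmul t w =>
      induction w with
      | zero => simp
      | add a b ha hb => simp only [tmul_add, map_add, ha, hb]
      | tmul s n => simp [fS]
  have h2 : Function.Injective (fS.lTensor T) := fun a b e => by
    have := congrArg (AlgebraTensorModule.cancelBaseChange R S S T M) e
    rw [hc, hc] at this
    exact (AlgebraTensorModule.cancelBaseChange R S S T N).injective (h1 this)
  exact (Module.FaithfullyFlat.lTensor_injective_iff_injective S T fS).1 h2

/-- If `T` is étale over both `S` and `R` at `P`, then `S` is étale over `R` at the point below. -/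
theorem isEtaleAt_cancel {R S T : Type u} [CommRing R] [CommRing S] [CommRing T] [Algebra R S] [Algebra S T]
    [Algebra R T] [IsScalarTower R S T] [Algebra.FinitePresentation R S] [Algebra.FinitePresentation S T]
    (p : Ideal S) [p.IsPrime] (P : Ideal T) [P.IsPrime] [P.LiesOver p]
    [Algebra.IsEtaleAt S P] [Algebra.IsEtaleAt R P] : Algebra.IsEtaleAt R p := by
  let S' := Localization.AtPrime p
  let T' := Localization.AtPrime P
  letI := Localization.AtPrime.algebraOfLiesOver p P
  haveI : Algebra.FormallyEtale S' T' := .localization_base p.primeCompl
  haveI : Module.Flat R T' := by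
    haveI : Algebra.FinitePresentation R T := Algebra.FinitePresentation.trans R S T
    obtain ⟨g, hg, hgE⟩ := Algebra.exists_etale_of_isEtaleAt (R := R) P
    let L := Localization.Away g
    letI : Algebra L T' := (IsLocalization.Away.lift (S := L) (g := algebraMap T T') g
      (IsLocalization.map_units T' (⟨g, hg⟩ : P.primeCompl))).toAlgebra
    haveI : IsScalarTower T L T' := IsScalarTower.of_algebraMap_eq fun x => (IsLocalization.Away.lift_eq g _ x).symm
    haveI : IsScalarTower R L T' := IsScalarTower.to₁₃₄ R T _ _
    haveI := IsLocalization.isLocalization_of_submonoid_le L T' (Submonoid.powers g) P.primeCompl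
      ((Submonoid.powers_le).2 hg)
    haveI : Module.Flat L T' := IsLocalization.flat T' (P.primeCompl.map (algebraMap T L))
    exact Module.Flat.trans R L T'
  haveI : Module.Flat S T' := by
    obtain ⟨g, hg, hgE⟩ := Algebra.exists_etale_of_isEtaleAt (R := S) P
    let L := Localization.Away g
    letI : Algebra L T' := (IsLocalization.Away.lift (S := L) (g := algebraMap T T') g
      (IsLocalization.map_units T' (⟨g, hg⟩ : P.primeCompl))).toAlgebra
    haveI : IsScalarTower T L T' := IsScalarTower.of_algebraMap_eq fun x => (IsLocalization.Away.lift_eq g _ x).symm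
    haveI : IsScalarTower S L T' := IsScalarTower.to₁₃₄ S T _ _
    haveI := IsLocalization.isLocalization_of_submonoid_le L T' (Submonoid.powers g) P.primeCompl
      ((Submonoid.powers_le).2 hg)
    haveI : Module.Flat L T' := IsLocalization.flat T' (P.primeCompl.map (algebraMap T L))
    exact Module.Flat.trans S L T'
  haveI : Module.Flat S' T' := (Module.flat_iff_of_isLocalization S' p.primeCompl T').2 inferInstance
  haveI : IsLocalHom (algebraMap S' T') := by
    rw [Localization.AtPrime.IsLiesOverAlgebra.algebraMap_eq]
    exact Localization.isLocalHom_localRingHom ..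
  haveI : Module.FaithfullyFlat S' T' := Module.FaithfullyFlat.of_flat_of_isLocalHom
  haveI : Module.Flat R S' := flat_of_faithfullyFlat_comp (S := S') (T := T')
  haveI : Algebra.IsUnramifiedAt R p := by
    refine ⟨?_⟩
    haveI : Subsingleton (T' ⊗[S'] Ω[S'⁄R]) :=
      (KaehlerDifferential.tensorKaehlerEquivOfFormallyEtale R S' T').subsingleton
    exact Module.FaithfullyFlat.lTensor_reflects_triviality S' T' Ω[S'⁄R]
  exact Groth.L05.SmoothCrit.isEtaleAt_of_unramified_of_flat p

end Groth.L09.InvEtale
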