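import Groth.Agent.L09.InvEtale.Reduce
import Mathlib.RingTheory.Localization.BaseChange

/-!
# Étale on invariants: inertia everything, arbitrary image point
-/

set_option autoImplicit false
set_option linter.style.haveILetI false
set_option backward.isDefEq.respectTransparency.types false

universe u

open TensorProduct Polynomial

namespace Groth.L09.InvEtale

variable {G B0 A0 B A : Type u} [Group G] [Finite G] [CommRing B0] [CommRing A0] [CommRing B] [CommRing A]
  [Algebra B0 B] [Algebra A0 A] [Algebra B A] [Algebra B0 A0] [Algebra B0 A] [IsScalarTower B0 B A]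
  [IsScalarTower B0 A0 A] [MulSemiringAction G B] [MulSemiringAction G A] [SMulCommClass G B0 B]
  [SMulCommClass G A0 A] [Algebra.IsInvariant B0 B G] [Algebra.IsInvariant A0 A G] [IsNoetherianRing B0]
  [IsNoetherianRing A0] [Module.Finite B0 B] [Module.Finite A0 A] [Algebra.FiniteType B0 A0]

set_option maxHeartbeats 1600000 in
/-- Invariants are étale at a point with full inertia. -/
theorem isEtaleAt_fullInertia (hG : ∀ (g : G) (b : B), algebraMap B A (g • b) = g • algebraMap B A b)
    (hiB : Function.Injective (algebraMap B0 B)) (hiA : Function.Injective (algebraMap A0 A))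
    (x : Ideal A) [x.IsMaximal]
    (hin : ∀ (g : G) (a : A), g • a - a ∈ x) [Algebra.IsEtaleAt B x] :
    Algebra.IsEtaleAt B0 (x.comap (algebraMap A0 A)) := by
  classical
  haveI : SMulCommClass G B0 A := ⟨fun g c a => by
    rw [Algebra.smul_def, Algebra.smul_def, smul_mul', IsScalarTower.algebraMap_apply B0 A0 A, smul_algebraMap]⟩
  letI := Ideal.Quotient.field x
  set y0 := x.comap (algebraMap B0 A) with hy0
  let D := Localization.AtPrime y0
  let φ : D →ₐ[B0] A ⧸ x := IsLocalization.liftAlgHom (M := y0.primeCompl) (S := D)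
    (f := Algebra.ofId B0 (A ⧸ x)) fun c => by
      refine IsUnit.mk0 _ fun h => c.2 ?_
      exact (Ideal.Quotient.eq_zero_iff_mem (I := x)).1 h
  haveI : Algebra.FormallyEtale B0 D := .of_isLocalization y0.primeCompl
  haveI : Module.Flat B0 D := IsLocalization.flat D y0.primeCompl
  -- the base change
  letI := tensorAction G B0 D B
  letI := tensorAction G B0 D A
  haveI := tensor_smul_comm (G := G) (R := B0) (D := D) (M := B)
  let mA := Algebra.TensorProduct.map (AlgHom.id D D) (IsScalarTower.toAlgHom B0 A0 A)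
  let mB := Algebra.TensorProduct.map (AlgHom.id D D) (IsScalarTower.toAlgHom B0 B A)
  letI : Algebra (D ⊗[B0] A0) (D ⊗[B0] A) := mA.toRingHom.toAlgebra
  letI : Algebra (D ⊗[B0] B) (D ⊗[B0] A) := mB.toRingHom.toAlgebra
  haveI : IsScalarTower D (D ⊗[B0] A0) (D ⊗[B0] A) := IsScalarTower.of_algebraMap_eq fun d => (mA.commutes d).symm
  haveI : IsScalarTower D (D ⊗[B0] B) (D ⊗[B0] A) := IsScalarTower.of_algebraMap_eq fun d => (mB.commutes d).symm
  haveI : SMulCommClass G (D ⊗[B0] A0) (D ⊗[B0] A) := ⟨fun g c z => by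
    rw [Algebra.smul_def, Algebra.smul_def, smul_mul']
    congr 1
    change g • mA c = mA c
    induction c with
    | zero => rw [map_zero, smul_zero]
    | add a b ha hb => rw [map_add, smul_add, ha, hb]
    | tmul d a =>
      change g • (d ⊗ₜ[B0] algebraMap A0 A a) = d ⊗ₜ[B0] algebraMap A0 A a
      rw [tensor_smul_tmul, smul_algebraMap]⟩
  haveI : Algebra.IsInvariant (D ⊗[B0] A0) (D ⊗[B0] A) G :=
    ⟨fun z hz => exists_of_tensor_fixed (M0 := A0) z hz⟩
  haveI : Algebra.IsInvariant D (D ⊗[B0] B) G := ⟨fun z hz => by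
    obtain ⟨w, rfl⟩ := exists_of_tensor_fixed (M0 := B0) z hz
    refine ⟨TensorProduct.rid B0 D w, ?_⟩
    clear hz
    induction w with
    | zero => simp
    | add a b ha hb => rw [map_add, map_add, ha, hb, map_add]
    | tmul d c =>
      rw [TensorProduct.rid_tmul, Algebra.TensorProduct.map_tmul]
      change (c • d) ⊗ₜ[B0] (1 : B) = d ⊗ₜ[B0] algebraMap B0 B c
      rw [TensorProduct.smul_tmul, Algebra.algebraMap_eq_smul_one]⟩
  have hiA1 : Function.Injective (algebraMap (D ⊗[B0] A0) (D ⊗[B0] A)) := tensor_map_injective hiA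
  have hiB1 : Function.Injective (algebraMap D (D ⊗[B0] B)) := by
    intro d d' h
    have h2 : Algebra.TensorProduct.map (AlgHom.id D D) (IsScalarTower.toAlgHom B0 B0 B) (d ⊗ₜ[B0] (1 : B0)) =
        Algebra.TensorProduct.map (AlgHom.id D D) (IsScalarTower.toAlgHom B0 B0 B) (d' ⊗ₜ[B0] (1 : B0)) := by
      rw [Algebra.TensorProduct.map_tmul, Algebra.TensorProduct.map_tmul, map_one]
      exact h
    simpa using congrArg (TensorProduct.rid B0 D) (tensor_map_injective (D := D) hiB h2)
  haveI : Module.Finite (D ⊗[B0] A0) (D ⊗[B0] A) := tensor_map_finite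
  haveI : IsNoetherianRing D := IsLocalization.isNoetherianRing y0.primeCompl D inferInstance
  haveI : IsNoetherianRing (D ⊗[B0] A0) := Algebra.FiniteType.isNoetherianRing D _
  have hG1 : ∀ (g : G) (b : D ⊗[B0] B),
      algebraMap (D ⊗[B0] B) (D ⊗[B0] A) (g • b) = g • algebraMap (D ⊗[B0] B) (D ⊗[B0] A) b := fun g b => by
    change mB (g • b) = g • mB b
    induction b with
    | zero => simp
    | add a b ha hb => rw [smul_add, map_add, map_add, ha, hb, smul_add]
    | tmul d b =>
      rw [tensor_smul_tmul]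
      change d ⊗ₜ[B0] algebraMap B A (g • b) = g • (d ⊗ₜ[B0] algebraMap B A b)
      rw [tensor_smul_tmul, hG]
  -- the point
  let ψ : D ⊗[B0] A →ₐ[B0] A ⧸ x :=
    Algebra.TensorProduct.lift φ (Ideal.Quotient.mkₐ B0 x) (fun _ _ => Commute.all _ _)
  have hψ : ∀ d a, ψ (d ⊗ₜ[B0] a) = φ d * Ideal.Quotient.mk x a := fun d a => rfl
  have hψs : Function.Surjective ψ := fun z => by
    obtain ⟨a, rfl⟩ := Ideal.Quotient.mk_surjective z
    exact ⟨1 ⊗ₜ a, by rw [hψ, map_one, one_mul]⟩
  let x1 : Ideal (D ⊗[B0] A) := RingHom.ker ψ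
  haveI : x1.IsMaximal := RingHom.ker_isMaximal_of_surjective _ hψs
  haveI : (x1.comap (algebraMap (D ⊗[B0] B) (D ⊗[B0] A))).IsMaximal := by
    haveI : Module.Finite D (D ⊗[B0] B) := inferInstance
    haveI : Algebra.IsIntegral D (D ⊗[B0] B) := Algebra.IsIntegral.of_finite D _
    haveI : (x1.comap (algebraMap (D ⊗[B0] B) (D ⊗[B0] A))).IsPrime := Ideal.IsPrime.comap _
    refine Ideal.isMaximal_of_isIntegral_of_isMaximal_comap (R := D) _ ?_
    rw [Ideal.comap_comap, ← IsScalarTower.algebraMap_eq]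
    have e : x1.comap (algebraMap D (D ⊗[B0] A)) = IsLocalRing.maximalIdeal D := by
      haveI : (x1.comap (algebraMap D (D ⊗[B0] A))).IsPrime := Ideal.IsPrime.comap _
      refine le_antisymm (IsLocalRing.le_maximalIdeal (Ideal.IsPrime.ne_top inferInstance)) ?_
      rw [← Localization.AtPrime.map_eq_maximalIdeal, Ideal.map_le_iff_le_comap]
      intro c hc
      change ψ (algebraMap B0 D c ⊗ₜ[B0] (1 : A)) = 0
      rw [hψ, map_one, mul_one, AlgHom.commutes]
      exact Ideal.Quotient.eq_zero_iff_mem.2 hc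
    rw [e]
    infer_instance
  have hin1 : ∀ (g : G) (z : D ⊗[B0] A), g • z - z ∈ x1 := fun g z => by
    change ψ (g • z - z) = 0
    rw [map_sub, sub_eq_zero]
    induction z with
    | zero => rw [smul_zero]
    | add a b ha hb => rw [smul_add, map_add, map_add, ha, hb]
    | tmul d a => rw [tensor_smul_tmul, hψ, hψ, Ideal.Quotient.eq.2 (hin g a)]
  -- étaleness upstairs
  haveI : Algebra.FormallyEtale B0 D := inferInstance
  letI algA : Algebra A (D ⊗[B0] A) := Algebra.TensorProduct.rightAlgebra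
  haveI : Algebra.FormallyEtale A (D ⊗[B0] A) :=
    Algebra.FormallyEtale.of_equiv
      (AlgEquiv.ofRingEquiv (R := A) (f := (Algebra.TensorProduct.comm B0 A D).toRingEquiv) fun a => rfl)
  letI algB : Algebra B (D ⊗[B0] B) := Algebra.TensorProduct.rightAlgebra
  haveI : Algebra.FormallyEtale B (D ⊗[B0] B) :=
    Algebra.FormallyEtale.of_equiv
      (AlgEquiv.ofRingEquiv (R := B) (f := (Algebra.TensorProduct.comm B0 B D).toRingEquiv) fun a => rfl)
  letI algBA : Algebra B (D ⊗[B0] A) := ((algebraMap A (D ⊗[B0] A)).comp (algebraMap B A)).toAlgebra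
  haveI : IsScalarTower B A (D ⊗[B0] A) := IsScalarTower.of_algebraMap_eq fun _ => rfl
  haveI : IsScalarTower B (D ⊗[B0] B) (D ⊗[B0] A) := IsScalarTower.of_algebraMap_eq fun b => by
    change (1 : D) ⊗ₜ[B0] algebraMap B A b = mB ((1 : D) ⊗ₜ[B0] b)
    rfl
  haveI : x1.LiesOver x := ⟨Ideal.ext fun a => by
    change a ∈ x ↔ ψ ((1 : D) ⊗ₜ[B0] a) = 0
    rw [hψ, map_one, one_mul, Ideal.Quotient.eq_zero_iff_mem]⟩
  haveI : Algebra.IsEtaleAt (D ⊗[B0] B) x1 := by
    let T := Localization.AtPrime x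
    let T1 := Localization.AtPrime x1
    letI : Algebra T T1 := Localization.AtPrime.algebraOfLiesOver x x1
    haveI : Algebra.FormallyEtale A T1 := Algebra.FormallyEtale.comp A (D ⊗[B0] A) T1
    haveI : Algebra.FormallyEtale T T1 := .localization_base x.primeCompl
    haveI : IsScalarTower B A T1 := IsScalarTower.to₁₂₄ B A (D ⊗[B0] A) T1
    haveI : IsScalarTower B T T1 := IsScalarTower.of_algebraMap_eq fun b => by
      rw [IsScalarTower.algebraMap_apply B A T1, IsScalarTower.algebraMap_apply B A T,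
        ← IsScalarTower.algebraMap_apply A T T1]
    haveI : Algebra.FormallyEtale B T1 := Algebra.FormallyEtale.comp B T T1
    exact Algebra.FormallyEtale.of_restrictScalars (R := B) (A := D ⊗[B0] B) (B := T1)
  have hR := isEtaleAt_reduce (G := G) (B0 := D) (A0 := D ⊗[B0] A0) (B := D ⊗[B0] B) (A := D ⊗[B0] A)
    hG1 hiB1 hiA1 x1 hin1
  -- descend
  set P1 := x1.comap (algebraMap (D ⊗[B0] A0) (D ⊗[B0] A))
  letI algA0 : Algebra A0 (D ⊗[B0] A0) := Algebra.TensorProduct.rightAlgebra
  set x0 := x.comap (algebraMap A0 A)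
  haveI : IsScalarTower B0 A0 (D ⊗[B0] A0) := IsScalarTower.of_algebraMap_eq fun c =>
    ((Algebra.TensorProduct.includeRight : A0 →ₐ[B0] D ⊗[B0] A0).commutes c).symm
  haveI hP1 : P1.LiesOver x0 := ⟨Ideal.ext fun a => by
    change algebraMap A0 A a ∈ x ↔ ψ ((1 : D) ⊗ₜ[B0] algebraMap A0 A a) = 0
    rw [hψ, map_one, one_mul, Ideal.Quotient.eq_zero_iff_mem]⟩
  let e0 : A0 ⊗[B0] D ≃ₐ[A0] D ⊗[B0] A0 :=
    AlgEquiv.ofRingEquiv (R := A0) (f := (Algebra.TensorProduct.comm B0 A0 D).toRingEquiv) fun a => rfl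
  haveI : IsLocalization (Algebra.algebraMapSubmonoid A0 y0.primeCompl) (D ⊗[B0] A0) :=
    IsLocalization.isLocalization_of_algEquiv _ e0
  let T1 := Localization.AtPrime P1
  haveI : IsLocalization.AtPrime T1 x0 := by
    have h1 := IsLocalization.isLocalization_isLocalization_atPrime_isLocalization
      (Algebra.algebraMapSubmonoid A0 y0.primeCompl) T1 P1
    have e1 : P1.under A0 = x0 := hP1.over.symm
    simpa only [e1] using h1
  haveI : Algebra.FormallyEtale B0 T1 := by
    haveI : Algebra.FormallyEtale D T1 := hR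
    exact Algebra.FormallyEtale.comp B0 D T1
  haveI : IsScalarTower B0 A0 T1 := IsScalarTower.to₁₂₄ B0 A0 (D ⊗[B0] A0) T1
  let e1 := (IsLocalization.algEquiv x0.primeCompl T1 (Localization.AtPrime x0)).restrictScalars B0
  exact Algebra.FormallyEtale.of_equiv (A := T1) (B := Localization.AtPrime x0) e1

end Groth.L09.InvEtale
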