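import Groth.Agent.L09.InvEtale.FullInertia
import Groth.Agent.L27.InvEtale.Points
import Mathlib.RingTheory.Invariant.Basic
import Mathlib.RingTheory.Adjoin.Tower

/-!
# Étale on invariants of a finite group
-/

set_option autoImplicit false
set_option linter.style.haveILetI false
set_option backward.isDefEq.respectTransparency.types false

universe u

namespace Groth.L09.InvEtale

/-- Artin–Tate for invariants of a finite group. -/
theorem finite_invariants {R S B G : Type u} [CommRing R] [IsNoetherianRing R] [CommRing S] [CommRing B]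
    [Algebra R S] [Algebra R B] [Algebra S B] [IsScalarTower R S B] [Algebra.FiniteType R B]
    [Group G] [Finite G] [MulSemiringAction G B] [Algebra.IsInvariant S B G] [SMulCommClass G S B]
    (hi : Function.Injective (algebraMap S B)) :
    Algebra.FiniteType R S ∧ Module.Finite S B := by
  haveI : Algebra.IsIntegral S B := Algebra.IsInvariant.isIntegral S B G
  haveI : Algebra.FiniteType S B := Algebra.FiniteType.of_restrictScalars_finiteType R S B
  haveI : Module.Finite S B := Algebra.IsIntegral.finite
  exact ⟨⟨fg_of_fg_of_fg R S B Algebra.FiniteType.out Module.Finite.fg_top hi⟩, inferInstance⟩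

/-- The invariants of the inertia group are étale at the point. -/
theorem isEtaleAt_inertia {B0 B G : Type u} [CommRing B0] [CommRing B] [Algebra B0 B] [Group G] [Finite G]
    [MulSemiringAction G B] [SMulCommClass G B0 B] [Algebra.IsInvariant B0 B G]
    (hi : Function.Injective (algebraMap B0 B)) (q : Ideal B) [q.IsPrime]
    [Algebra B0 (FixedPoints.subring B (q.inertia G))] [IsScalarTower B0 (FixedPoints.subring B (q.inertia G)) B]
    (qH : Ideal (FixedPoints.subring B (q.inertia G))) [qH.IsPrime]
    (hqH : ∀ z : FixedPoints.subring B (q.inertia G), z ∈ qH ↔ (z : B) ∈ q) :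
    Algebra.IsEtaleAt B0 qH := by
  let e : B0 →+* FixedPoints.subring B G := (algebraMap B0 B).codRestrict _ fun c g => smul_algebraMap g c
  have he : Function.Bijective e := ⟨fun a b h => hi (congrArg Subtype.val h), fun z => by
    obtain ⟨c, hc⟩ := Algebra.IsInvariant.isInvariant (A := B0) (z : B) z.2
    exact ⟨c, Subtype.ext hc⟩⟩
  letI : Algebra B0 (FixedPoints.subring B G) := e.toAlgebra
  haveI : Algebra.FormallyEtale B0 (FixedPoints.subring B G) :=
    Algebra.FormallyEtale.of_equiv (AlgEquiv.ofBijective (Algebra.ofId B0 (FixedPoints.subring B G)) he)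
  haveI : IsScalarTower B0 (FixedPoints.subring B G) (FixedPoints.subring B (q.inertia G)) :=
    IsScalarTower.of_algebraMap_eq fun c =>
      Subtype.ext (IsScalarTower.algebraMap_apply B0 (FixedPoints.subring B (q.inertia G)) B c).symm
  obtain ⟨θ, hθ⟩ := Groth.L27.InvEtale.exists_inertia_sep (G := G) q
  let H := q.inertia G
  have hD : Groth.L27.InvEtale.D H θ ∈ qH.primeCompl := fun h =>
    Groth.L27.InvEtale.D_not_mem H θ q hθ ((hqH _).1 h)
  haveI := Groth.L27.InvEtale.etale_away H θ
  let L := Localization.Away (Groth.L27.InvEtale.D H θ)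
  let T := Localization.AtPrime qH
  letI : Algebra L T := (IsLocalization.Away.lift (S := L) (g := algebraMap _ T) (Groth.L27.InvEtale.D H θ)
    (IsLocalization.map_units T (⟨_, hD⟩ : qH.primeCompl))).toAlgebra
  haveI : IsScalarTower (FixedPoints.subring B H) L T :=
    IsScalarTower.of_algebraMap_eq fun z => (IsLocalization.Away.lift_eq _ _ z).symm
  haveI : IsScalarTower (FixedPoints.subring B G) L T :=
    IsScalarTower.to₁₃₄ (FixedPoints.subring B G) (FixedPoints.subring B H) L T
  haveI : Algebra.FormallyEtale (FixedPoints.subring B H) T := .of_isLocalization qH.primeCompl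
  haveI : Algebra.FormallyEtale (FixedPoints.subring B H) L :=
    .of_isLocalization (Submonoid.powers (Groth.L27.InvEtale.D H θ))
  haveI : Algebra.FormallyEtale L T :=
    Algebra.FormallyEtale.of_restrictScalars (R := FixedPoints.subring B H) (A := L) (B := T)
  haveI : Algebra.FormallyEtale (FixedPoints.subring B G) T :=
    Algebra.FormallyEtale.comp (FixedPoints.subring B G) L T
  haveI : IsScalarTower B0 (FixedPoints.subring B G) T :=
    IsScalarTower.to₁₂₄ B0 (FixedPoints.subring B G) (FixedPoints.subring B H) T
  exact Algebra.FormallyEtale.comp B0 (FixedPoints.subring B G) T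

variable {R A B A0 B0 G : Type u} [CommRing R] [IsNoetherianRing R] [CommRing A] [CommRing B] [CommRing A0]
  [CommRing B0] [Algebra R A] [Algebra R B] [Algebra R A0] [Algebra R B0] [Algebra B0 B] [Algebra A0 A]
  [Algebra B A] [Algebra B0 A0] [Algebra B0 A] [IsScalarTower B0 B A] [IsScalarTower B0 A0 A]
  [IsScalarTower R B0 B] [IsScalarTower R A0 A] [IsScalarTower R B A]
  [Algebra.FiniteType R A] [Algebra.FiniteType R B] [Group G] [Finite G] [MulSemiringAction G A]
  [MulSemiringAction G B] [SMulCommClass G B0 B] [SMulCommClass G A0 A] [Algebra.IsInvariant B0 B G]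
  [Algebra.IsInvariant A0 A G]

include R in
/-- Étale on invariants at a point with the same inertia. -/
theorem isEtaleAt_fixed (hG : ∀ (g : G) (b : B), algebraMap B A (g • b) = g • algebraMap B A b)
    (hiB : Function.Injective (algebraMap B0 B)) (hiA : Function.Injective (algebraMap A0 A))
    (x : Ideal A) [x.IsMaximal] [Algebra.IsEtaleAt B x]
    (hin : x.inertia G = (x.comap (algebraMap B A)).inertia G) :
    Algebra.IsEtaleAt B0 (x.comap (algebraMap A0 A)) := by
  set y := x.comap (algebraMap B A) with hy
  haveI : IsScalarTower R B0 A0 := IsScalarTower.of_algebraMap_eq fun r => hiA (by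
    rw [← IsScalarTower.algebraMap_apply, ← IsScalarTower.algebraMap_apply, IsScalarTower.algebraMap_apply R B A,
      IsScalarTower.algebraMap_apply R B0 B, ← IsScalarTower.algebraMap_apply B0 B A])
  let BI := FixedPoints.subring B (y.inertia G)
  let AI := FixedPoints.subring A (x.inertia G)
  let fB : B0 →+* BI := (algebraMap B0 B).codRestrict _ fun c g => smul_algebraMap (g : G) c
  let fA : A0 →+* AI := (algebraMap A0 A).codRestrict _ fun c g => smul_algebraMap (g : G) c
  have hmem : ∀ b : BI, algebraMap B A (b : B) ∈ AI := fun b g => by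
    show (g : G) • algebraMap B A (b : B) = algebraMap B A (b : B)
    rw [← hG]
    exact congrArg _ (b.2 (⟨g, hin ▸ g.2⟩ : y.inertia G))
  let fBA : BI →+* AI := ((algebraMap B A).comp BI.subtype).codRestrict _ hmem
  letI : Algebra B0 BI := fB.toAlgebra
  letI : Algebra A0 AI := fA.toAlgebra
  letI : Algebra BI AI := fBA.toAlgebra
  letI : Algebra B0 AI := (fBA.comp fB).toAlgebra
  haveI : IsScalarTower B0 BI AI := IsScalarTower.of_algebraMap_eq fun _ => rfl
  haveI : IsScalarTower B0 BI B := IsScalarTower.of_algebraMap_eq fun _ => rfl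
  haveI : IsScalarTower A0 AI A := IsScalarTower.of_algebraMap_eq fun _ => rfl
  haveI : IsScalarTower B0 A0 AI := IsScalarTower.of_algebraMap_eq fun c => Subtype.ext
    ((IsScalarTower.algebraMap_apply B0 B A c).symm.trans (IsScalarTower.algebraMap_apply B0 A0 A c))
  letI : Algebra R BI := ((algebraMap B0 BI).comp (algebraMap R B0)).toAlgebra
  letI : Algebra R AI := ((algebraMap A0 AI).comp (algebraMap R A0)).toAlgebra
  haveI : IsScalarTower R B0 BI := IsScalarTower.of_algebraMap_eq fun _ => rfl
  haveI : IsScalarTower R A0 AI := IsScalarTower.of_algebraMap_eq fun _ => rfl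
  haveI : IsScalarTower R BI B := IsScalarTower.of_algebraMap_eq fun r => IsScalarTower.algebraMap_apply R B0 B r
  haveI : IsScalarTower R AI A := IsScalarTower.of_algebraMap_eq fun r => IsScalarTower.algebraMap_apply R A0 A r
  haveI : SMulCommClass (y.inertia G) BI B := ⟨fun g b z => by
    rw [Subring.smul_def, Subring.smul_def, smul_eq_mul, smul_eq_mul, smul_mul', b.2 g]⟩
  haveI : SMulCommClass (x.inertia G) AI A := ⟨fun g b z => by
    rw [Subring.smul_def, Subring.smul_def, smul_eq_mul, smul_eq_mul, smul_mul', b.2 g]⟩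
  haveI : Algebra.IsInvariant BI B (y.inertia G) := ⟨fun b hb => ⟨⟨b, hb⟩, rfl⟩⟩
  haveI : Algebra.IsInvariant AI A (x.inertia G) := ⟨fun b hb => ⟨⟨b, hb⟩, rfl⟩⟩
  obtain ⟨hB0, -⟩ := finite_invariants (R := R) (S := B0) (B := B) (G := G) hiB
  obtain ⟨hA0, -⟩ := finite_invariants (R := R) (S := A0) (B := A) (G := G) hiA
  obtain ⟨hBI, hBIf⟩ := finite_invariants (R := R) (S := BI) (B := B) (G := y.inertia G) Subtype.val_injective
  obtain ⟨hAI, hAIf⟩ := finite_invariants (R := R) (S := AI) (B := A) (G := x.inertia G) Subtype.val_injective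
  haveI : IsNoetherianRing B0 := Algebra.FiniteType.isNoetherianRing R B0
  haveI : IsNoetherianRing A0 := Algebra.FiniteType.isNoetherianRing R A0
  haveI : IsNoetherianRing BI := Algebra.FiniteType.isNoetherianRing R BI
  haveI : IsNoetherianRing AI := Algebra.FiniteType.isNoetherianRing R AI
  haveI : IsScalarTower R B0 AI := IsScalarTower.to₁₂₄ R B0 A0 AI
  haveI : IsScalarTower R BI AI := IsScalarTower.to₁₃₄ R B0 BI AI
  haveI : Algebra.FiniteType BI AI := Algebra.FiniteType.of_restrictScalars_finiteType R BI AI
  haveI : Algebra.FiniteType B0 A0 := Algebra.FiniteType.of_restrictScalars_finiteType R B0 A0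
  haveI : Algebra.FiniteType A0 AI := Algebra.FiniteType.of_restrictScalars_finiteType R A0 AI
  haveI : Algebra.FinitePresentation B0 A0 := Algebra.FinitePresentation.of_finiteType.1 inferInstance
  haveI : Algebra.FinitePresentation A0 AI := Algebra.FinitePresentation.of_finiteType.1 inferInstance
  let xI := x.comap (algebraMap AI A)
  -- full inertia
  haveI hI : Algebra.IsEtaleAt BI xI := by
    haveI : SMulCommClass (x.inertia G) BI B := ⟨fun g b z => by
      rw [Subring.smul_def, Subring.smul_def, smul_eq_mul, smul_eq_mul, smul_mul']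
      exact congrArg (· * _) (b.2 (⟨g, hin ▸ g.2⟩ : y.inertia G))⟩
    haveI : Algebra.IsInvariant BI B (x.inertia G) :=
      ⟨fun b hb => ⟨⟨b, fun g => hb ⟨g, hin.symm ▸ g.2⟩⟩, rfl⟩⟩
    haveI : IsScalarTower BI AI A := IsScalarTower.of_algebraMap_eq fun _ => rfl
    haveI : IsScalarTower BI B A := IsScalarTower.of_algebraMap_eq fun _ => rfl
    exact isEtaleAt_fullInertia (G := x.inertia G) (B0 := BI) (A0 := AI) (B := B) (A := A)
      (fun g b => hG g b) Subtype.val_injective Subtype.val_injective x fun g a => g.2 a
  let qH := xI.comap (algebraMap BI AI)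
  haveI hB : Algebra.IsEtaleAt B0 qH :=
    isEtaleAt_inertia (G := G) hiB y qH fun _ => Iff.rfl
  haveI hA : Algebra.IsEtaleAt A0 xI :=
    isEtaleAt_inertia (G := G) hiA x xI fun _ => Iff.rfl
  haveI : Algebra.IsEtaleAt B0 xI := by
    let T := Localization.AtPrime qH
    let T' := Localization.AtPrime xI
    haveI : xI.LiesOver qH := ⟨rfl⟩
    letI : Algebra T T' := Localization.AtPrime.algebraOfLiesOver qH xI
    haveI : Algebra.FormallyEtale T T' := .localization_base qH.primeCompl
    haveI : IsScalarTower B0 T T' := IsScalarTower.of_algebraMap_eq fun c => by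
      rw [IsScalarTower.algebraMap_apply B0 BI T, ← IsScalarTower.algebraMap_apply BI T T',
        IsScalarTower.algebraMap_apply BI AI T', ← IsScalarTower.algebraMap_apply B0 BI AI,
        ← IsScalarTower.algebraMap_apply B0 AI T']
    exact Algebra.FormallyEtale.comp B0 T T'
  haveI : xI.LiesOver (x.comap (algebraMap A0 A)) := ⟨rfl⟩
  exact isEtaleAt_cancel (R := B0) (S := A0) (T := AI) _ xI

end Groth.L09.InvEtale
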