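import Mathlib.RingTheory.Filtration
import Mathlib.RingTheory.Flat.FaithfullyFlat.Algebra
import Mathlib.RingTheory.Flat.Basic
import Mathlib.RingTheory.Flat.Tensor
import Mathlib.RingTheory.LocalRing.RingHom.Basic
import Mathlib.RingTheory.TensorProduct.Finite
import Mathlib.RingTheory.Localization.AtPrime.Basic

/-!
# Local homomorphisms inducing isomorphisms modulo all powers of the maximal ideals
-/

set_option autoImplicit false
set_option linter.style.haveILetI false

universe u

open IsLocalRing TensorProduct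

namespace Groth.L09.InvEtale

variable {P Q : Type u} [CommRing P] [CommRing Q] [IsLocalRing P] [IsLocalRing Q] [Algebra P Q]

theorem surj_mod_pow (hm : (maximalIdeal P).map (algebraMap P Q) = maximalIdeal Q)
    (hres : ∀ q : Q, ∃ p : P, q - algebraMap P Q p ∈ maximalIdeal Q) (n : ℕ) (q : Q) :
    ∃ p : P, q - algebraMap P Q p ∈ maximalIdeal Q ^ n := by
  induction n generalizing q with
  | zero => exact ⟨0, by simp⟩
  | succ k ih =>
    have hk : ∀ z ∈ maximalIdeal Q ^ k, ∃ c : P, z - algebraMap P Q c ∈ maximalIdeal Q ^ (k + 1) := by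
      intro z hz
      rw [← hm, ← Ideal.map_pow] at hz
      refine Submodule.span_induction (p := fun z _ => ∃ c : P, z - algebraMap P Q c ∈ maximalIdeal Q ^ (k + 1))
        ?_ ⟨0, by simp⟩ ?_ ?_ hz
      · rintro _ ⟨r, -, rfl⟩; exact ⟨r, by simp⟩
      · rintro z w - - ⟨c, hc⟩ ⟨d, hd⟩
        refine ⟨c + d, ?_⟩
        rw [map_add, show z + w - (algebraMap P Q c + algebraMap P Q d) =
          (z - algebraMap P Q c) + (w - algebraMap P Q d) by ring]
        exact Ideal.add_mem _ hc hd
      · rintro r z hz ⟨c, hc⟩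
        obtain ⟨b, hb⟩ := hres r
        refine ⟨b * c, ?_⟩
        rw [map_mul, smul_eq_mul, show r * z - algebraMap P Q b * algebraMap P Q c =
          (r - algebraMap P Q b) * z + algebraMap P Q b * (z - algebraMap P Q c) by ring]
        refine Ideal.add_mem _ ?_ (Ideal.mul_mem_left _ _ hc)
        rw [pow_succ']
        refine Ideal.mul_mem_mul hb ?_
        rw [← hm, ← Ideal.map_pow]
        exact hz
    obtain ⟨b, hb⟩ := ih q
    obtain ⟨c, hc⟩ := hk _ hb
    exact ⟨b + c, by rwa [map_add, ← sub_sub]⟩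

theorem comap_pow [Module.Flat P Q] [IsLocalHom (algebraMap P Q)]
    (hm : (maximalIdeal P).map (algebraMap P Q) = maximalIdeal Q) (n : ℕ) :
    (maximalIdeal Q ^ n).comap (algebraMap P Q) = maximalIdeal P ^ n := by
  haveI : Module.FaithfullyFlat P Q := Module.FaithfullyFlat.of_flat_of_isLocalHom
  rw [← hm, ← Ideal.map_pow]
  exact Ideal.comap_map_eq_self_of_faithfullyFlat (B := Q) _

/-- Flatness from isomorphisms modulo all powers. -/
theorem flat_of_mod_pow [IsNoetherianRing P] [IsNoetherianRing Q]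
    (hm : (maximalIdeal P).map (algebraMap P Q) = maximalIdeal Q)
    (hres : ∀ q : Q, ∃ p : P, q - algebraMap P Q p ∈ maximalIdeal Q)
    (hinj : ∀ i : ℕ, ∃ N : ℕ, ∀ p : P, algebraMap P Q p ∈ maximalIdeal Q ^ N → p ∈ maximalIdeal P ^ i) :
    Module.Flat P Q := by
  rw [Module.Flat.iff_lTensor_injective']
  intro J
  rw [injective_iff_map_eq_zero]
  intro x hx
  have hstep : ∀ N : ℕ, ∃ (j : J) (y : Q ⊗[P] J),
      y ∈ (maximalIdeal Q ^ N) • (⊤ : Submodule Q (Q ⊗[P] J)) ∧ x = (1 : Q) ⊗ₜ[P] j + y := by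
    intro N
    clear hx
    induction x with
    | zero => exact ⟨0, 0, Submodule.zero_mem _, by simp⟩
    | add a b ha hb =>
      obtain ⟨j, y, hy, rfl⟩ := ha
      obtain ⟨k, z, hz, rfl⟩ := hb
      exact ⟨j + k, y + z, Submodule.add_mem _ hy hz, by rw [tmul_add]; abel⟩
    | tmul q j =>
      obtain ⟨p, hp⟩ := surj_mod_pow hm hres N q
      refine ⟨p • j, (q - algebraMap P Q p) ⊗ₜ[P] j, ?_, ?_⟩
      · rw [show (q - algebraMap P Q p) ⊗ₜ[P] j = (q - algebraMap P Q p) • ((1 : Q) ⊗ₜ[P] j) by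
          rw [smul_tmul', smul_eq_mul, mul_one]]
        exact Submodule.smul_mem_smul hp trivial
      · rw [← smul_tmul, ← Algebra.algebraMap_eq_smul_one, ← add_tmul, add_sub_cancel]
  obtain ⟨k, hk⟩ := (maximalIdeal P).exists_pow_inf_eq_pow_smul (M := P) J
  have hbot : (⨅ i : ℕ, maximalIdeal Q ^ i • (⊤ : Submodule Q (Q ⊗[P] J))) = ⊥ :=
    Ideal.iInf_pow_smul_eq_bot_of_isLocalRing _ (maximalIdeal.isMaximal Q).ne_top
  have hxi : x ∈ (⨅ i : ℕ, maximalIdeal Q ^ i • (⊤ : Submodule Q (Q ⊗[P] J))) := by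
    refine (Submodule.mem_iInf _).2 fun i => ?_
    obtain ⟨N, hN⟩ := hinj (i + k)
    obtain ⟨j, y, hy, rfl⟩ := hstep (max N i)
    refine Submodule.add_mem _ ?_ (Submodule.smul_mono_left (Ideal.pow_le_pow_right (le_max_right N i)) hy)
    have hj : algebraMap P Q (j : P) ∈ maximalIdeal Q ^ N := by
      let μ : Q ⊗[P] J →ₗ[Q] Q := TensorProduct.AlgebraTensorModule.lift
        ((LinearMap.ringLmapEquivSelf Q Q _).symm ((Algebra.linearMap P Q).comp J.subtype))
      have hμ : ∀ q (j : J), μ (q ⊗ₜ[P] j) = q * algebraMap P Q (j : P) := fun q j => by simp [μ]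
      have h0 : ∀ z : Q ⊗[P] J, μ z = TensorProduct.rid P Q (J.subtype.lTensor Q z) := fun z => by
        induction z with
        | zero => simp
        | add a b ha hb => simp only [map_add, ha, hb]
        | tmul q j => rw [hμ]; simp [Algebra.smul_def, mul_comm]
      have h1 : μ ((1 : Q) ⊗ₜ[P] j) + μ y = 0 := by rw [← map_add, h0, hx, map_zero]
      rw [hμ, one_mul, add_eq_zero_iff_eq_neg] at h1
      rw [h1]
      refine neg_mem ?_
      have h2 : μ y ∈ (maximalIdeal Q ^ max N i) • (⊤ : Submodule Q Q) := by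
        have h3 := Submodule.mem_map_of_mem (f := μ) hy
        rw [Submodule.map_smul''] at h3
        exact Submodule.smul_mono le_rfl le_top h3
      rw [smul_eq_mul, Ideal.mul_top] at h2
      exact Ideal.pow_le_pow_right (le_max_left N i) h2
    have hjm : (j : P) ∈ (maximalIdeal P ^ (i + k)) • (⊤ : Submodule P P) ⊓ J := by
      refine ⟨?_, j.2⟩
      rw [smul_eq_mul, Ideal.mul_top]
      exact hN _ hj
    rw [hk (i + k) (Nat.le_add_left k i), Nat.add_sub_cancel] at hjm
    have hjJ : (j : P) ∈ (maximalIdeal P ^ i • (⊤ : Submodule P J)).map J.subtype := by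
      rw [Submodule.map_smul'', Submodule.map_top, Submodule.range_subtype]
      exact Submodule.smul_mono le_rfl inf_le_right hjm
    obtain ⟨j', hj', hjj⟩ := hjJ
    obtain rfl : j' = j := Subtype.ext hjj
    refine Submodule.smul_induction_on (p := fun z : J => (1 : Q) ⊗ₜ[P] z ∈
      maximalIdeal Q ^ i • (⊤ : Submodule Q (Q ⊗[P] J))) hj' (fun r hr z _ => ?_) (fun a b ha hb => ?_)
    · rw [← smul_tmul, ← Algebra.algebraMap_eq_smul_one,
        show algebraMap P Q r ⊗ₜ[P] z = algebraMap P Q r • ((1 : Q) ⊗ₜ[P] z) by rw [smul_tmul', smul_eq_mul, mul_one]]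
      refine Submodule.smul_mem_smul ?_ trivial
      rw [← hm, ← Ideal.map_pow]
      exact Ideal.mem_map_of_mem _ hr
    · rw [tmul_add]; exact Submodule.add_mem _ ha hb
  rwa [hbot, Submodule.mem_bot] at hxi

end Groth.L09.InvEtale
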