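import Groth.Agent.S12933
import Mathlib.RingTheory.Invariant.Defs
import Mathlib.RingTheory.Flat.Basic
import Mathlib.RingTheory.TensorProduct.Finite
import Mathlib.Algebra.Algebra.Hom

/-!
# A group acting on the second factor of a tensor product
-/

set_option autoImplicit false
set_option linter.style.haveILetI false

universe u

open TensorProduct

namespace Groth.L09.InvEtale

variable {G R D M : Type u} [Group G] [CommRing R] [CommRing D] [CommRing M] [Algebra R D] [Algebra R M]
  [MulSemiringAction G M] [SMulCommClass G R M]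

variable (G R D M) in
/-- `G` acting on `D ⊗ M` through `M`. -/
@[reducible] noncomputable def tensorAction : MulSemiringAction G (D ⊗[R] M) :=
  let f : G → (D ⊗[R] M →ₐ[D] D ⊗[R] M) := fun g =>
    Algebra.TensorProduct.map (AlgHom.id D D) (MulSemiringAction.toAlgHom R M g)
  { smul := fun g z => f g z
    one_smul := fun z => by
      change f 1 z = z
      induction z with
      | zero => exact map_zero _
      | add a b ha hb => rw [map_add, ha, hb]
      | tmul d m => simp [f]
    mul_smul := fun g h z => by
      change f (g * h) z = f g (f h z)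
      induction z with
      | zero => simp
      | add a b ha hb => rw [map_add, ha, hb, map_add, map_add]
      | tmul d m => simp [f, mul_smul]
    smul_zero := fun g => map_zero (f g)
    smul_add := fun g => map_add (f g)
    smul_one := fun g => map_one (f g)
    smul_mul := fun g => map_mul (f g) }

theorem tensor_smul_tmul (g : G) (d : D) (m : M) :
    (letI := tensorAction G R D M; g • (d ⊗ₜ[R] m)) = d ⊗ₜ[R] (g • m) := rfl

theorem tensor_smul_comm :
    letI := tensorAction G R D M
    SMulCommClass G D (D ⊗[R] M) :=
  letI := tensorAction G R D M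
  ⟨fun g d z => map_smul (Algebra.TensorProduct.map (AlgHom.id D D) (MulSemiringAction.toAlgHom R M g)) d z⟩

variable [Finite G] [Module.Flat R D]

/-- Invariants of a flat base change come from the invariants. -/
theorem exists_of_tensor_fixed {M0 : Type u} [CommRing M0] [Algebra R M0] [Algebra M0 M] [IsScalarTower R M0 M]
    [Algebra.IsInvariant M0 M G] (z : D ⊗[R] M) (hz : ∀ g : G, (letI := tensorAction G R D M; g • z) = z) :
    ∃ w : D ⊗[R] M0, Algebra.TensorProduct.map (AlgHom.id D D) (IsScalarTower.toAlgHom R M0 M) w = z := by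
  have h := (Groth.Agent.S12933.result R M G D z).1 fun g => hz g
  suffices hle : Submodule.span D ((fun b : M => (1 : D) ⊗ₜ[R] b) '' {b : M | ∀ g : G, g • b = b}) ≤
      LinearMap.range (Algebra.TensorProduct.map (AlgHom.id D D) (IsScalarTower.toAlgHom R M0 M)).toLinearMap from
    hle h
  rw [Submodule.span_le]
  rintro _ ⟨b, hb, rfl⟩
  obtain ⟨c, rfl⟩ := Algebra.IsInvariant.isInvariant (A := M0) b hb
  exact ⟨1 ⊗ₜ[R] c, Algebra.TensorProduct.map_tmul _ _ _ _⟩

omit [MulSemiringAction G M] [SMulCommClass G R M] [Finite G] in
theorem tensor_map_injective {M0 : Type u} [CommRing M0] [Algebra R M0] [Algebra M0 M] [IsScalarTower R M0 M]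
    (h : Function.Injective (algebraMap M0 M)) :
    Function.Injective (Algebra.TensorProduct.map (AlgHom.id D D) (IsScalarTower.toAlgHom R M0 M)) := by
  have e : ∀ w : D ⊗[R] M0, Algebra.TensorProduct.map (AlgHom.id D D) (IsScalarTower.toAlgHom R M0 M) w =
      (IsScalarTower.toAlgHom R M0 M).toLinearMap.lTensor D w := fun w => by
    induction w with
    | zero => simp
    | add a b ha hb => rw [map_add, map_add, ha, hb]
    | tmul d m => rfl
  intro a b hab
  rw [e, e] at hab
  exact Module.Flat.lTensor_preserves_injective_linearMap (M := D) _ h hab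

omit [MulSemiringAction G M] [SMulCommClass G R M] [Finite G] [Module.Flat R D] in
theorem tensor_map_finite {M0 : Type u} [CommRing M0] [Algebra R M0] [Algebra M0 M] [IsScalarTower R M0 M]
    [Module.Finite M0 M] :
    letI := (Algebra.TensorProduct.map (AlgHom.id D D) (IsScalarTower.toAlgHom R M0 M)).toRingHom.toAlgebra
    Module.Finite (D ⊗[R] M0) (D ⊗[R] M) := by
  classical
  letI := (Algebra.TensorProduct.map (AlgHom.id D D) (IsScalarTower.toAlgHom R M0 M)).toRingHom.toAlgebra
  obtain ⟨s, hs⟩ := (Module.Finite.fg_top : (⊤ : Submodule M0 M).FG)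
  refine ⟨⟨s.image fun m => (1 : D) ⊗ₜ[R] m, ?_⟩⟩
  rw [eq_top_iff]
  rintro z -
  induction z with
  | zero => exact Submodule.zero_mem _
  | add a b ha hb => exact Submodule.add_mem _ ha hb
  | tmul d m =>
    have hm : m ∈ Submodule.span M0 (s : Set M) := hs ▸ trivial
    induction hm using Submodule.span_induction generalizing d with
    | mem m hm =>
      have e : d ⊗ₜ[R] m = (d ⊗ₜ[R] (1 : M0)) • ((1 : D) ⊗ₜ[R] m) := by
        rw [Algebra.smul_def, RingHom.algebraMap_toAlgebra]
        simp [Algebra.TensorProduct.map_tmul, Algebra.TensorProduct.tmul_mul_tmul]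
      rw [e]
      exact Submodule.smul_mem _ _ (Submodule.subset_span (Finset.mem_image_of_mem _ hm))
    | zero => simp
    | add a b _ _ ha hb => rw [tmul_add]; exact Submodule.add_mem _ (ha d) (hb d)
    | smul c m _ ih =>
      have e : d ⊗ₜ[R] (c • m) = ((1 : D) ⊗ₜ[R] c) • (d ⊗ₜ[R] m) := by
        rw [Algebra.smul_def, Algebra.smul_def, RingHom.algebraMap_toAlgebra]
        simp [Algebra.TensorProduct.map_tmul, Algebra.TensorProduct.tmul_mul_tmul]
      rw [e]
      exact Submodule.smul_mem _ _ (ih d)

end Groth.L09.InvEtale
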