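import Groth.Agent.L09.InvEtale.Residue
import Groth.Agent.L09.InvEtale.Tensor
import Mathlib.FieldTheory.PurelyInseparable.PerfectClosure
import Mathlib.FieldTheory.SeparableClosure
import Mathlib.FieldTheory.PrimitiveElement
import Mathlib.Algebra.Polynomial.Lifts
import Mathlib.RingTheory.Etale.StandardEtale
import Mathlib.RingTheory.LocalRing.ResidueField.Ideal
import Mathlib.RingTheory.LocalRing.ResidueField.Instances

/-!
# Étale on invariants: inertia everything
-/

set_option autoImplicit false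
set_option linter.style.haveILetI false
set_option backward.isDefEq.respectTransparency.types false

universe u

open TensorProduct Polynomial

namespace Groth.L09.InvEtale

/-- A finite extension `L` of `k`, separable over `K`, is generated over `K` by an element separable over `k`. -/
theorem exists_separable_generator (k K L : Type u) [Field k] [Field K] [Field L] [Algebra k K] [Algebra K L]
    [Algebra k L] [IsScalarTower k K L] [FiniteDimensional k L] [Algebra.IsSeparable K L] :
    ∃ η : L, IsSeparable k η ∧ Algebra.adjoin K {η} = ⊤ := by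
  haveI : FiniteDimensional K L := FiniteDimensional.right k K L
  obtain ⟨η, hη⟩ := Field.exists_primitive_element K L
  obtain ⟨q, hq⟩ := ExpChar.exists k
  haveI : ExpChar K q := expChar_of_injective_algebraMap (algebraMap k K).injective q
  haveI : ExpChar (separableClosure k L) q :=
    expChar_of_injective_algebraMap (algebraMap k (separableClosure k L)).injective q
  haveI : IsPurelyInseparable (separableClosure k L) L := separableClosure.isPurelyInseparable k L
  obtain ⟨n, c, hc⟩ := IsPurelyInseparable.pow_mem (separableClosure k L) q η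
  refine ⟨η ^ q ^ n, mem_separableClosure_iff.1 (hc ▸ c.2), ?_⟩
  have h : IntermediateField.adjoin K {η ^ q ^ n} = ⊤ := by
    rw [← IntermediateField.adjoin_simple_eq_adjoin_pow_expChar_pow_of_isSeparable' K L η q n, hη]
  rw [← IntermediateField.adjoin_simple_toSubalgebra_of_isAlgebraic (Algebra.IsAlgebraic.isAlgebraic _), h,
    IntermediateField.top_toSubalgebra]

variable {G B0 A0 B A : Type u} [Group G] [Finite G] [CommRing B0] [CommRing A0] [CommRing B] [CommRing A]
  [Algebra B0 B] [Algebra A0 A] [Algebra B A] [Algebra B0 A0] [Algebra B0 A] [IsScalarTower B0 B A]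
  [IsScalarTower B0 A0 A] [MulSemiringAction G B] [MulSemiringAction G A] [SMulCommClass G B0 B]
  [SMulCommClass G A0 A] [Algebra.IsInvariant B0 B G] [Algebra.IsInvariant A0 A G] [IsNoetherianRing B0]
  [IsNoetherianRing A0] [Module.Finite B0 B] [Module.Finite A0 A] [Algebra.FiniteType B0 A0]

set_option maxHeartbeats 1600000 in
/-- Invariants are étale at a point with full inertia. -/
theorem isEtaleAt_reduce (hG : ∀ (g : G) (b : B), algebraMap B A (g • b) = g • algebraMap B A b)
    (hiB : Function.Injective (algebraMap B0 B)) (hiA : Function.Injective (algebraMap A0 A))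
    (x : Ideal A) [x.IsMaximal] [(x.comap (algebraMap B A)).IsMaximal]
    (hin : ∀ (g : G) (a : A), g • a - a ∈ x) [Algebra.IsEtaleAt B x] :
    Algebra.IsEtaleAt B0 (x.comap (algebraMap A0 A)) := by
  classical
  haveI : SMulCommClass G B0 A := ⟨fun g c a => by
    rw [Algebra.smul_def, Algebra.smul_def, smul_mul', IsScalarTower.algebraMap_apply B0 A0 A, smul_algebraMap]⟩
  haveI : Algebra.FiniteType B0 A := Algebra.FiniteType.trans (S := A0) inferInstance inferInstance
  haveI : IsNoetherianRing B := IsNoetherianRing.of_finite B0 B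
  haveI : Algebra.FiniteType B A := Algebra.FiniteType.of_restrictScalars_finiteType B0 B A
  haveI : Algebra.FinitePresentation B A := Algebra.FinitePresentation.of_finiteType.1 inferInstance
  set y := x.comap (algebraMap B A) with hy
  set y0 := y.comap (algebraMap B0 B) with hy0
  haveI : y0.IsMaximal := by
    haveI : Algebra.IsIntegral B0 B := Algebra.IsIntegral.of_finite B0 B
    exact Ideal.isMaximal_comap_of_isIntegral_of_isMaximal y
  haveI : x.LiesOver y := ⟨rfl⟩
  haveI : y.LiesOver y0 := ⟨rfl⟩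
  haveI : x.LiesOver y0 := Ideal.LiesOver.trans x y y0
  letI := Ideal.Quotient.field x
  letI := Ideal.Quotient.field y
  letI := Ideal.Quotient.field y0
  haveI : FiniteDimensional (B0 ⧸ y0) (A ⧸ x) := by
    haveI : Algebra.FiniteType B0 (A ⧸ x) := Algebra.FiniteType.trans (S := A) inferInstance inferInstance
    haveI : Algebra.FiniteType (B0 ⧸ y0) (A ⧸ x) :=
      Algebra.FiniteType.of_restrictScalars_finiteType B0 (B0 ⧸ y0) (A ⧸ x)
    exact finite_of_finite_type_of_isJacobsonRing (B0 ⧸ y0) (A ⧸ x)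
  haveI : Algebra.IsSeparable (B ⧸ y) (A ⧸ x) := by
    haveI : Algebra.IsUnramifiedAt B x :=
      (inferInstance : Algebra.FormallyUnramified B (Localization.AtPrime x))
    letI : Algebra (Localization.AtPrime y) (Localization.AtPrime x) := Localization.AtPrime.algebraOfLiesOver y x
    haveI := ((Algebra.isUnramifiedAt_iff_map_eq B y x).1 inferInstance).1
    exact (Algebra.isSeparable_residueField_iff (p := y) (q := x)).1 this
  haveI : IsScalarTower (B0 ⧸ y0) (B ⧸ y) (A ⧸ x) := IsScalarTower.of_algebraMap_eq fun c => by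
    obtain ⟨c, rfl⟩ := Ideal.Quotient.mk_surjective c
    exact congrArg (Ideal.Quotient.mk x) (IsScalarTower.algebraMap_apply B0 B A c)
  obtain ⟨η, hηs, hηgen⟩ := exists_separable_generator (B0 ⧸ y0) (B ⧸ y) (A ⧸ x)
  -- the auxiliary étale algebra
  obtain ⟨f0, hf0, -, hf0m⟩ := Polynomial.lifts_and_natDegree_eq_and_monic
    (f := Ideal.Quotient.mk y0) (p := minpoly (B0 ⧸ y0) η)
    (Polynomial.map_surjective _ Ideal.Quotient.mk_surjective _) (minpoly.monic hηs.isIntegral)
  let P : StandardEtalePair B0 := ⟨f0, hf0m, derivative f0, ⟨1, 0, 1, by ring⟩⟩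
  have hev : ∀ p : B0[X], aeval η p = aeval η (p.map (Ideal.Quotient.mk y0)) := fun p => by
    rw [← Ideal.Quotient.algebraMap_eq, aeval_map_algebraMap]
  have hP : P.HasMap η := by
    refine ⟨?_, ?_⟩
    · change aeval η f0 = 0
      rw [hev, hf0, minpoly.aeval]
    · change IsUnit (aeval η (derivative f0))
      rw [hev, ← derivative_map, hf0]
      exact (hηs.aeval_derivative_ne_zero (minpoly.aeval _ _)).isUnit
  let D := P.Ring
  let φ : D →ₐ[B0] A ⧸ x := P.lift η hP
  -- the base change
  letI := tensorAction G B0 D B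
  letI := tensorAction G B0 D A
  haveI := tensor_smul_comm (G := G) (R := B0) (D := D) (M := B)
  let mA := Algebra.TensorProduct.map (AlgHom.id D D) (IsScalarTower.toAlgHom B0 A0 A)
  let mB := Algebra.TensorProduct.map (AlgHom.id D D) (IsScalarTower.toAlgHom B0 B A)
  letI : Algebra (D ⊗[B0] A0) (D ⊗[B0] A) := mA.toRingHom.toAlgebra
  letI : Algebra (D ⊗[B0] B) (D ⊗[B0] A) := mB.toRingHom.toAlgebra
  haveI : IsScalarTower D (D ⊗[B0] A0) (D ⊗[B0] A) := IsScalarTower.of_algebraMap_eq fun d => (mA.commutes d).symm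
  haveI : IsScalarTower D (D ⊗[B0] B) (D ⊗[B0] A) := IsScalarTower.of_algebraMap_eq fun d => (mB.commutes d).symm
  haveI : SMulCommClass G (D ⊗[B0] A0) (D ⊗[B0] A) := ⟨fun g c z => by
    rw [Algebra.smul_def, Algebra.smul_def, smul_mul']
    congr 1
    change g • mA c = mA c
    induction c with
    | zero => rw [map_zero, smul_zero]
    | add a b ha hb => rw [map_add, smul_add, ha, hb]
    | tmul d a =>
      change g • (d ⊗ₜ[B0] algebraMap A0 A a) = d ⊗ₜ[B0] algebraMap A0 A a
      rw [tensor_smul_tmul, smul_algebraMap]⟩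
  haveI : Algebra.IsInvariant (D ⊗[B0] A0) (D ⊗[B0] A) G :=
    ⟨fun z hz => exists_of_tensor_fixed (M0 := A0) z hz⟩
  haveI : Algebra.IsInvariant D (D ⊗[B0] B) G := ⟨fun z hz => by
    obtain ⟨w, rfl⟩ := exists_of_tensor_fixed (M0 := B0) z hz
    refine ⟨TensorProduct.rid B0 D w, ?_⟩
    clear hz
    induction w with
    | zero => simp
    | add a b ha hb => rw [map_add, map_add, ha, hb, map_add]
    | tmul d c =>
      rw [TensorProduct.rid_tmul, Algebra.TensorProduct.map_tmul]
      change (c • d) ⊗ₜ[B0] (1 : B) = d ⊗ₜ[B0] algebraMap B0 B c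
      rw [TensorProduct.smul_tmul, Algebra.algebraMap_eq_smul_one]⟩
  have hiA1 : Function.Injective (algebraMap (D ⊗[B0] A0) (D ⊗[B0] A)) := tensor_map_injective hiA
  have hiB1 : Function.Injective (algebraMap D (D ⊗[B0] B)) := by
    intro d d' h
    have h2 : Algebra.TensorProduct.map (AlgHom.id D D) (IsScalarTower.toAlgHom B0 B0 B) (d ⊗ₜ[B0] (1 : B0)) =
        Algebra.TensorProduct.map (AlgHom.id D D) (IsScalarTower.toAlgHom B0 B0 B) (d' ⊗ₜ[B0] (1 : B0)) := by
      simpa [Algebra.TensorProduct.map_tmul, Algebra.TensorProduct.algebraMap_apply] using h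
    simpa using congrArg (TensorProduct.rid B0 D) (tensor_map_injective (D := D) hiB h2)
  haveI : Module.Finite (D ⊗[B0] A0) (D ⊗[B0] A) := tensor_map_finite
  haveI : IsNoetherianRing D := Algebra.FiniteType.isNoetherianRing B0 D
  haveI : IsNoetherianRing (D ⊗[B0] A0) := Algebra.FiniteType.isNoetherianRing D _
  have hG1 : ∀ (g : G) (b : D ⊗[B0] B),
      algebraMap (D ⊗[B0] B) (D ⊗[B0] A) (g • b) = g • algebraMap (D ⊗[B0] B) (D ⊗[B0] A) b := fun g b => by
    change mB (g • b) = g • mB b
    induction b with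
    | zero => simp
    | add a b ha hb => rw [smul_add, map_add, map_add, ha, hb, smul_add]
    | tmul d b =>
      rw [tensor_smul_tmul]
      change d ⊗ₜ[B0] algebraMap B A (g • b) = g • (d ⊗ₜ[B0] algebraMap B A b)
      rw [tensor_smul_tmul, hG]
  -- the point
  let ψ : D ⊗[B0] A →ₐ[B0] A ⧸ x :=
    Algebra.TensorProduct.lift φ (Ideal.Quotient.mkₐ B0 x) (fun _ _ => Commute.all _ _)
  have hψ : ∀ d a, ψ (d ⊗ₜ[B0] a) = φ d * Ideal.Quotient.mk x a := fun d a => rfl
  have hψs : Function.Surjective ψ := fun z => by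
    obtain ⟨a, rfl⟩ := Ideal.Quotient.mk_surjective z
    exact ⟨1 ⊗ₜ a, by rw [hψ, map_one, one_mul]⟩
  let x1 : Ideal (D ⊗[B0] A) := RingHom.ker ψ
  haveI : x1.IsMaximal := RingHom.ker_isMaximal_of_surjective _ hψs
  have hψB : Function.Surjective (ψ.comp (mB.restrictScalars B0)) := by
    intro z
    have hz : z ∈ Algebra.adjoin (B ⧸ y) {η} := hηgen ▸ trivial
    change z ∈ Set.range (ψ.comp (mB.restrictScalars B0))
    rw [← AlgHom.coe_range]
    induction hz using Algebra.adjoin_induction with
    | mem z hz =>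
      obtain rfl : z = η := hz
      exact ⟨P.X ⊗ₜ 1, by
        change φ P.X * Ideal.Quotient.mk x (algebraMap B A 1) = z
        rw [map_one, map_one, mul_one]; exact P.lift_X _ hP⟩
    | algebraMap c =>
      obtain ⟨b, rfl⟩ := Ideal.Quotient.mk_surjective c
      exact ⟨1 ⊗ₜ b, by
        change φ 1 * Ideal.Quotient.mk x (algebraMap B A b) = _
        rw [map_one, one_mul]; rfl⟩
    | add a b _ _ ha hb => exact Subalgebra.add_mem _ ha hb
    | mul a b _ _ ha hb => exact Subalgebra.mul_mem _ ha hb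
  haveI : (x1.comap (algebraMap (D ⊗[B0] B) (D ⊗[B0] A))).IsMaximal := by
    have e : x1.comap (algebraMap (D ⊗[B0] B) (D ⊗[B0] A)) = RingHom.ker (ψ.comp (mB.restrictScalars B0)) :=
      Ideal.ext fun _ => Iff.rfl
    rw [e]
    exact RingHom.ker_isMaximal_of_surjective _ hψB
  have hin1 : ∀ (g : G) (z : D ⊗[B0] A), g • z - z ∈ x1 := fun g z => by
    change ψ (g • z - z) = 0
    rw [map_sub, sub_eq_zero]
    induction z with
    | zero => rw [smul_zero]
    | add a b ha hb => rw [smul_add, map_add, map_add, ha, hb]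
    | tmul d a => rw [tensor_smul_tmul, hψ, hψ, Ideal.Quotient.eq.2 (hin g a)]
  have hres1 : ∀ z : D ⊗[B0] A, ∃ b : D ⊗[B0] B, z - algebraMap (D ⊗[B0] B) (D ⊗[B0] A) b ∈ x1 := fun z => by
    obtain ⟨b, hb⟩ := hψB (ψ z)
    refine ⟨b, ?_⟩
    change ψ (z - mB b) = 0
    rw [map_sub, ← hb]
    exact sub_self _
  -- étaleness upstairs
  haveI : Algebra.FormallyEtale B0 D := inferInstance
  letI algA : Algebra A (D ⊗[B0] A) := Algebra.TensorProduct.rightAlgebra
  haveI : Algebra.FormallyEtale A (D ⊗[B0] A) :=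
    Algebra.FormallyEtale.of_equiv
      (AlgEquiv.ofRingEquiv (R := A) (f := (Algebra.TensorProduct.comm B0 A D).toRingEquiv) fun a => rfl)
  letI algB : Algebra B (D ⊗[B0] B) := Algebra.TensorProduct.rightAlgebra
  haveI : Algebra.FormallyEtale B (D ⊗[B0] B) :=
    Algebra.FormallyEtale.of_equiv
      (AlgEquiv.ofRingEquiv (R := B) (f := (Algebra.TensorProduct.comm B0 B D).toRingEquiv) fun a => rfl)
  letI algBA : Algebra B (D ⊗[B0] A) := ((algebraMap A (D ⊗[B0] A)).comp (algebraMap B A)).toAlgebra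
  haveI : IsScalarTower B A (D ⊗[B0] A) := IsScalarTower.of_algebraMap_eq fun _ => rfl
  haveI : IsScalarTower B (D ⊗[B0] B) (D ⊗[B0] A) := IsScalarTower.of_algebraMap_eq fun b => by
    change (1 : D) ⊗ₜ[B0] algebraMap B A b = mB ((1 : D) ⊗ₜ[B0] b)
    rfl
  haveI : x1.LiesOver x := ⟨Ideal.ext fun a => by
    change a ∈ x ↔ ψ ((1 : D) ⊗ₜ[B0] a) = 0
    rw [hψ, map_one, one_mul, Ideal.Quotient.eq_zero_iff_mem]⟩
  haveI : Algebra.IsEtaleAt (D ⊗[B0] B) x1 := by
    let T := Localization.AtPrime x
    let T1 := Localization.AtPrime x1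
    letI : Algebra T T1 := Localization.AtPrime.algebraOfLiesOver x x1
    haveI : Algebra.FormallyEtale A T1 := Algebra.FormallyEtale.comp A (D ⊗[B0] A) T1
    haveI : Algebra.FormallyEtale T T1 := .localization_base x.primeCompl
    haveI : IsScalarTower B A T1 := IsScalarTower.to₁₂₄ B A (D ⊗[B0] A) T1
    haveI : IsScalarTower B T T1 := IsScalarTower.of_algebraMap_eq fun b => by
      rw [IsScalarTower.algebraMap_apply B A T1, IsScalarTower.algebraMap_apply B A T,
        ← IsScalarTower.algebraMap_apply A T T1]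
    haveI : Algebra.FormallyEtale B T1 := Algebra.FormallyEtale.comp B T T1
    exact Algebra.FormallyEtale.of_restrictScalars (R := B) (A := D ⊗[B0] B) (B := T1)
  have hR := isEtaleAt_residue (G := G) (B0 := D) (A0 := D ⊗[B0] A0) (B := D ⊗[B0] B) (A := D ⊗[B0] A)
    hG1 hiB1 hiA1 x1 hin1 hres1
  -- descend
  set P1 := x1.comap (algebraMap (D ⊗[B0] A0) (D ⊗[B0] A))
  letI algA0 : Algebra A0 (D ⊗[B0] A0) := Algebra.TensorProduct.rightAlgebra
  haveI : Algebra.FormallyEtale A0 (D ⊗[B0] A0) :=
    Algebra.FormallyEtale.of_equiv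
      (AlgEquiv.ofRingEquiv (R := A0) (f := (Algebra.TensorProduct.comm B0 A0 D).toRingEquiv) fun a => rfl)
  haveI : Algebra.FinitePresentation A0 (D ⊗[B0] A0) :=
    Algebra.FinitePresentation.equiv
      (AlgEquiv.ofRingEquiv (R := A0) (f := (Algebra.TensorProduct.comm B0 A0 D).toRingEquiv) fun a => rfl)
  haveI : Algebra.FinitePresentation B0 A0 := Algebra.FinitePresentation.of_finiteType.1 inferInstance
  haveI : IsScalarTower B0 A0 (D ⊗[B0] A0) := IsScalarTower.of_algebraMap_eq fun c =>
    ((Algebra.TensorProduct.includeRight : A0 →ₐ[B0] D ⊗[B0] A0).commutes c).symm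
  haveI : P1.LiesOver (x.comap (algebraMap A0 A)) := ⟨Ideal.ext fun a => by
    change algebraMap A0 A a ∈ x ↔ ψ ((1 : D) ⊗ₜ[B0] algebraMap A0 A a) = 0
    rw [hψ, map_one, one_mul, Ideal.Quotient.eq_zero_iff_mem]⟩
  haveI : Algebra.IsEtaleAt B0 P1 := by
    haveI : Algebra.FormallyEtale D (Localization.AtPrime P1) := hR
    exact Algebra.FormallyEtale.comp B0 D (Localization.AtPrime P1)
  haveI : Algebra.IsEtaleAt A0 P1 := Algebra.FormallyEtale.comp A0 (D ⊗[B0] A0) (Localization.AtPrime P1)
  exact isEtaleAt_cancel (R := B0) (S := A0) (T := D ⊗[B0] A0) _ P1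

end Groth.L09.InvEtale
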