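import Groth.Agent.L09.InvEtale.AR
import Groth.Agent.L09.InvEtale.PowIso
import Groth.Agent.L09.InvEtale.Descent
import Mathlib.RingTheory.Unramified.LocalRing
import Mathlib.RingTheory.FiniteType

/-!
# Étale on invariants: inertia everything and trivial residue extension
-/

set_option autoImplicit false
set_option linter.style.haveILetI false

universe u

open IsLocalRing

namespace Groth.L09.InvEtale

theorem flat_localization_of_isEtaleAt {R S : Type u} [CommRing R] [CommRing S] [Algebra R S]
    [Algebra.FinitePresentation R S] (q : Ideal S) [q.IsPrime] [Algebra.IsEtaleAt R q] :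
    Module.Flat R (Localization.AtPrime q) := by
  let T := Localization.AtPrime q
  obtain ⟨g, hg, hgE⟩ := Algebra.exists_etale_of_isEtaleAt (R := R) q
  let L := Localization.Away g
  letI : Algebra L T := (IsLocalization.Away.lift (S := L) (g := algebraMap S T) g
    (IsLocalization.map_units T (⟨g, hg⟩ : q.primeCompl))).toAlgebra
  haveI : IsScalarTower S L T := IsScalarTower.of_algebraMap_eq fun x => (IsLocalization.Away.lift_eq g _ x).symm
  haveI : IsScalarTower R L T := IsScalarTower.to₁₃₄ R S _ _
  haveI := IsLocalization.isLocalization_of_submonoid_le L T (Submonoid.powers g) q.primeCompl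
    ((Submonoid.powers_le).2 hg)
  haveI : Module.Flat L T := IsLocalization.flat T (q.primeCompl.map (algebraMap S L))
  exact Module.Flat.trans R L T

/-- At an étale point with trivial residue extension the two local rings agree modulo all powers. -/
theorem etale_residue_mod_pow {B A : Type u} [CommRing B] [CommRing A] [Algebra B A]
    [Algebra.FinitePresentation B A] (x : Ideal A) [x.IsMaximal] [Algebra.IsEtaleAt B x]
    [(x.comap (algebraMap B A)).IsMaximal]
    (hres : ∀ a : A, ∃ b : B, a - algebraMap B A b ∈ x) :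
    (∀ (a : A) (n : ℕ), ∃ (u b : B), u ∉ x.comap (algebraMap B A) ∧
        algebraMap B A u * a - algebraMap B A b ∈ x ^ n) ∧
      (∀ (b : B) (n : ℕ), algebraMap B A b ∈ x ^ n → b ∈ x.comap (algebraMap B A) ^ n) := by
  set y := x.comap (algebraMap B A) with hy
  haveI : x.LiesOver y := ⟨rfl⟩
  let S := Localization.AtPrime y
  let T := Localization.AtPrime x
  letI : Algebra S T := Localization.AtPrime.algebraOfLiesOver y x
  have hST : ∀ b : B, algebraMap S T (algebraMap B S b) = algebraMap A T (algebraMap B A b) := fun b => by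
    rw [Localization.AtPrime.IsLiesOverAlgebra.algebraMap_eq]
    exact Localization.localRingHom_to_map _ _ _ _ b
  haveI : IsLocalHom (algebraMap S T) := by
    rw [Localization.AtPrime.IsLiesOverAlgebra.algebraMap_eq]
    exact Localization.isLocalHom_localRingHom ..
  haveI : Module.Flat B T := flat_localization_of_isEtaleAt x
  haveI : Module.Flat S T := (Module.flat_iff_of_isLocalization S y.primeCompl T).2 inferInstance
  haveI : Algebra.IsUnramifiedAt B x := (inferInstance : Algebra.FormallyUnramified B T)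
  have hm : (maximalIdeal S).map (algebraMap S T) = maximalIdeal T := by
    rw [← Localization.AtPrime.map_eq_maximalIdeal, Ideal.map_map, ← IsScalarTower.algebraMap_eq]
    exact ((Algebra.isUnramifiedAt_iff_map_eq B y x).1 inferInstance).2
  have hres' : ∀ q : T, ∃ p : S, q - algebraMap S T p ∈ maximalIdeal T := by
    intro q
    obtain ⟨a, s, rfl⟩ := IsLocalization.exists_mk'_eq x.primeCompl q
    obtain ⟨b, hb⟩ := hres a
    obtain ⟨c, hc⟩ := hres (s : A)
    have hcy : c ∈ y.primeCompl := fun h => s.2 (by simpa using Ideal.add_mem x hc h)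
    refine ⟨IsLocalization.mk' S b (⟨c, hcy⟩ : y.primeCompl), ?_⟩
    have hu : IsUnit (algebraMap A T (s : A) * algebraMap A T (algebraMap B A c)) :=
      (IsLocalization.map_units T s).mul
        (IsLocalization.map_units T (⟨algebraMap B A c, hcy⟩ : x.primeCompl))
    refine (Ideal.mul_unit_mem_iff_mem _ hu).1 ?_
    have h1 : IsLocalization.mk' T a s * algebraMap A T s = algebraMap A T a := IsLocalization.mk'_spec T a s
    have h2 : algebraMap S T (IsLocalization.mk' S b (⟨c, hcy⟩ : y.primeCompl)) *
        algebraMap A T (algebraMap B A c) = algebraMap A T (algebraMap B A b) := by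
      rw [← hST, ← hST, ← map_mul, IsLocalization.mk'_spec]
    have h3 : algebraMap A T (a * algebraMap B A c - algebraMap B A b * s) ∈ maximalIdeal T := by
      rw [← Localization.AtPrime.map_eq_maximalIdeal]
      refine Ideal.mem_map_of_mem _ ?_
      rw [show a * algebraMap B A c - algebraMap B A b * s =
        (a - algebraMap B A b) * algebraMap B A c - algebraMap B A b * (s - algebraMap B A c) by ring]
      exact Ideal.sub_mem _ (Ideal.mul_mem_right _ _ hb) (Ideal.mul_mem_left _ _ hc)
    convert h3 using 1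
    rw [map_sub, map_mul, map_mul, ← h1, ← h2]
    ring
  refine ⟨fun a n => ?_, fun b n hb => ?_⟩
  · obtain ⟨p, hp⟩ := surj_mod_pow hm hres' n (algebraMap A T a)
    obtain ⟨b, u, rfl⟩ := IsLocalization.exists_mk'_eq y.primeCompl p
    refine ⟨u, b, u.2, ?_⟩
    rw [← IsLocalization.AtPrime.under_maximalIdeal_pow x T n, Ideal.under, Ideal.mem_comap, map_sub, map_mul]
    have h2 : algebraMap S T (IsLocalization.mk' S b u) * algebraMap A T (algebraMap B A u) =
        algebraMap A T (algebraMap B A b) := by
      rw [← hST, ← hST, ← map_mul, IsLocalization.mk'_spec]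
    rw [← h2, mul_comm (algebraMap S T _), ← mul_sub]
    exact Ideal.mul_mem_left _ _ hp
  · rw [← IsLocalization.AtPrime.under_maximalIdeal_pow y S n, Ideal.under, Ideal.mem_comap, ← comap_pow hm n,
      Ideal.mem_comap, hST]
    exact Ideal.mem_comap.1 ((IsLocalization.AtPrime.under_maximalIdeal_pow x T n).symm ▸ hb :)

variable {G B0 A0 B A : Type u} [Group G] [Finite G] [CommRing B0] [CommRing A0] [CommRing B] [CommRing A]
  [Algebra B0 B] [Algebra A0 A] [Algebra B A] [Algebra B0 A0] [Algebra B0 A] [IsScalarTower B0 B A]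
  [IsScalarTower B0 A0 A] [MulSemiringAction G B] [MulSemiringAction G A] [SMulCommClass G B0 B]
  [SMulCommClass G A0 A] [Algebra.IsInvariant B0 B G] [Algebra.IsInvariant A0 A G] [IsNoetherianRing B0]
  [IsNoetherianRing A0] [Module.Finite B0 B] [Module.Finite A0 A] [Algebra.FiniteType B0 A0]

/-- Invariants are étale at a point with full inertia and trivial residue extension. -/
theorem isEtaleAt_residue (hG : ∀ (g : G) (b : B), algebraMap B A (g • b) = g • algebraMap B A b)
    (hiB : Function.Injective (algebraMap B0 B)) (hiA : Function.Injective (algebraMap A0 A))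
    (x : Ideal A) [x.IsMaximal] [(x.comap (algebraMap B A)).IsMaximal]
    (hin : ∀ (g : G) (a : A), g • a - a ∈ x) [Algebra.IsEtaleAt B x]
    (hres : ∀ a : A, ∃ b : B, a - algebraMap B A b ∈ x) :
    Algebra.IsEtaleAt B0 (x.comap (algebraMap A0 A)) := by
  classical
  haveI := Fintype.ofFinite G
  haveI : IsNoetherianRing B := IsNoetherianRing.of_finite B0 B
  haveI : Algebra.FinitePresentation B0 A0 := Algebra.FinitePresentation.of_finiteType.1 inferInstance
  haveI : Algebra.FiniteType B0 A := Algebra.FiniteType.trans (S := A0) inferInstance inferInstance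
  haveI : Algebra.FiniteType B A := Algebra.FiniteType.of_restrictScalars_finiteType B0 B A
  haveI : Algebra.FinitePresentation B A := Algebra.FinitePresentation.of_finiteType.1 inferInstance
  obtain ⟨hsurj, hinjy⟩ := etale_residue_mod_pow (B := B) x hres
  set y := x.comap (algebraMap B A) with hy
  set x0 := x.comap (algebraMap A0 A) with hx0
  let y0 := x0.comap (algebraMap B0 A0)
  have hy0 : y0 = y.comap (algebraMap B0 B) := by
    simp only [y0, hx0, hy, Ideal.comap_comap, ← IsScalarTower.algebraMap_eq]
  have hgy : ∀ g : G, ∀ r ∈ y, g • r ∈ y := fun g r hr => by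
    simp only [hy, Ideal.mem_comap, hG] at hr ⊢
    simpa using x.add_mem (hin g (algebraMap B A r)) hr
  have hgx : ∀ g : G, ∀ r ∈ x, g • r ∈ x := fun g r hr => by simpa using x.add_mem (hin g r) hr
  have hgxn : ∀ (g : G) (n : ℕ), ∀ r ∈ x ^ n, g • r ∈ x ^ n := fun g n r hr => by
    have h := Ideal.mem_map_of_mem (MulSemiringAction.toRingHom G A g) hr
    rw [Ideal.map_pow] at h
    exact Ideal.pow_right_mono ((Ideal.map_le_iff_le_comap (f := MulSemiringAction.toRingHom G A g) (K := x)).2 fun z hz => hgx g z hz) n h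
  have hpow : ∀ (b : B) (n : ℕ), b ∈ y ^ n → algebraMap B A b ∈ x ^ n := fun b n hb => by
    have h := Ideal.mem_map_of_mem (algebraMap B A) hb
    rw [Ideal.map_pow] at h
    exact Ideal.pow_right_mono Ideal.map_comap_le n h
  -- the two inputs at the level of invariants
  have hinj0 : ∀ i : ℕ, ∃ N : ℕ, ∀ c : B0, algebraMap B0 A0 c ∈ x0 ^ N → c ∈ y0 ^ i := by
    intro i
    obtain ⟨N, hN⟩ := exists_comap_pow_le (G := G) (R0 := B0) y hgy hiB i
    refine ⟨N, fun c hc => ?_⟩
    rw [hy0]
    refine hN c (hinjy _ _ ?_)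
    have h := Ideal.mem_map_of_mem (algebraMap A0 A) hc
    rw [Ideal.map_pow] at h
    rw [← IsScalarTower.algebraMap_apply, IsScalarTower.algebraMap_apply B0 A0 A]
    exact Ideal.pow_right_mono Ideal.map_comap_le N h
  have hsurj0 : ∀ (a : A0) (i : ℕ), ∃ ν c : B0, ν ∉ y0 ∧ algebraMap B0 A0 ν * a - algebraMap B0 A0 c ∈ x0 ^ i := by
    intro a i
    obtain ⟨Nx, hNx⟩ := exists_comap_pow_le (G := G) (R0 := A0) x hgx hiA i
    obtain ⟨M, hM⟩ := exists_inv_approx (G := G) (R0 := B0) y hgy Nx
    obtain ⟨u, b, hu, hub⟩ := hsurj (algebraMap A0 A a) (max M Nx)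
    let w : B := ∏ g ∈ Finset.univ.erase (1 : G), g • u
    have hw : u * w = ∏ g : G, g • u := by
      rw [← Finset.mul_prod_erase Finset.univ (fun g : G => g • u) (Finset.mem_univ 1), one_smul]
    obtain ⟨ν, hν⟩ := Algebra.IsInvariant.isInvariant (A := B0) (G := G) (∏ g : G, g • u) fun g => by
      rw [Finset.smul_prod']
      exact Fintype.prod_equiv (Equiv.mulLeft g) _ _ fun h => by simp [smul_smul]
    have hνy : ν ∉ y0 := by
      rw [hy0, Ideal.mem_comap, hν, Ideal.IsPrime.prod_mem_iff]
      rintro ⟨g, -, hg⟩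
      exact hu (by simpa using hgy g⁻¹ _ hg)
    have hνa : algebraMap B0 A ν * algebraMap A0 A a - algebraMap B A (w * b) ∈ x ^ max M Nx := by
      rw [IsScalarTower.algebraMap_apply B0 B A, hν, ← hw, map_mul, map_mul,
        show algebraMap B A u * algebraMap B A w * algebraMap A0 A a - algebraMap B A w * algebraMap B A b =
          algebraMap B A w * (algebraMap B A u * algebraMap A0 A a - algebraMap B A b) by ring]
      exact Ideal.mul_mem_left _ _ hub
    have hfix : ∀ g : G, g • (w * b) - w * b ∈ y ^ M := fun g => by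
      refine hinjy _ _ (Ideal.pow_le_pow_right (le_max_left M Nx) ?_)
      have h1 := hgxn g _ _ hνa
      have h2 : g • (algebraMap B0 A ν * algebraMap A0 A a) = algebraMap B0 A ν * algebraMap A0 A a := by
        rw [IsScalarTower.algebraMap_apply B0 A0 A, ← map_mul, smul_algebraMap]
      rw [smul_sub, h2, ← hG] at h1
      rw [map_sub]
      simpa using Ideal.sub_mem _ hνa h1
    obtain ⟨c, hc⟩ := hM _ hfix
    refine ⟨ν, c, hνy, hNx _ ?_⟩
    rw [map_sub, map_mul, ← IsScalarTower.algebraMap_apply, ← IsScalarTower.algebraMap_apply,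
      IsScalarTower.algebraMap_apply B0 B A c,
      show algebraMap B0 A ν * algebraMap A0 A a - algebraMap B A (algebraMap B0 B c) =
        (algebraMap B0 A ν * algebraMap A0 A a - algebraMap B A (w * b)) +
          algebraMap B A (w * b - algebraMap B0 B c) by rw [map_sub]; ring]
    exact Ideal.add_mem _ (Ideal.pow_le_pow_right (le_max_right M Nx) hνa) (hpow _ _ hc)
  -- localise
  haveI : x0.IsMaximal := by
    haveI : Algebra.IsIntegral A0 A := Algebra.IsIntegral.of_finite A0 A
    exact Ideal.isMaximal_comap_of_isIntegral_of_isMaximal x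
  haveI : y0.IsMaximal := by
    haveI : Algebra.IsIntegral B0 B := Algebra.IsIntegral.of_finite B0 B
    rw [hy0]
    exact Ideal.isMaximal_comap_of_isIntegral_of_isMaximal y
  haveI : x0.LiesOver y0 := ⟨rfl⟩
  let C := Localization.AtPrime y0
  let C' := Localization.AtPrime x0
  letI : Algebra C C' := Localization.AtPrime.algebraOfLiesOver y0 x0
  have hCC : ∀ c : B0, algebraMap C C' (algebraMap B0 C c) = algebraMap A0 C' (algebraMap B0 A0 c) := fun c => by
    rw [Localization.AtPrime.IsLiesOverAlgebra.algebraMap_eq]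
    exact Localization.localRingHom_to_map _ _ _ _ c
  haveI : IsLocalHom (algebraMap C C') := by
    rw [Localization.AtPrime.IsLiesOverAlgebra.algebraMap_eq]
    exact Localization.isLocalHom_localRingHom ..
  have hpowC' : ∀ (z : A0) (i : ℕ), z ∈ x0 ^ i → algebraMap A0 C' z ∈ maximalIdeal C' ^ i := fun z i hz =>
    Ideal.mem_comap.1 ((IsLocalization.AtPrime.under_maximalIdeal_pow x0 C' i).symm ▸ hz :)
  have hA0 : ∀ (a : A0) (i : ℕ), ∃ p : C, algebraMap A0 C' a - algebraMap C C' p ∈ maximalIdeal C' ^ i := by
    intro a i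
    obtain ⟨ν, c, hν, h⟩ := hsurj0 a i
    refine ⟨IsLocalization.mk' C c (⟨ν, hν⟩ : y0.primeCompl), ?_⟩
    have hu : IsUnit (algebraMap A0 C' (algebraMap B0 A0 ν)) :=
      IsLocalization.map_units C' (⟨algebraMap B0 A0 ν, hν⟩ : x0.primeCompl)
    refine (Ideal.mul_unit_mem_iff_mem _ hu).1 ?_
    have h2 : algebraMap C C' (IsLocalization.mk' C c (⟨ν, hν⟩ : y0.primeCompl)) *
        algebraMap A0 C' (algebraMap B0 A0 ν) = algebraMap A0 C' (algebraMap B0 A0 c) := by
      rw [← hCC, ← hCC, ← map_mul, IsLocalization.mk'_spec]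
    rw [sub_mul, h2, mul_comm, ← map_mul, ← map_sub]
    exact hpowC' _ _ h
  have hC : ∀ (q : C') (i : ℕ), ∃ p : C, q - algebraMap C C' p ∈ maximalIdeal C' ^ i := by
    intro q i
    rcases Nat.eq_zero_or_pos i with rfl | hi
    · exact ⟨0, by simp⟩
    obtain ⟨a, s, rfl⟩ := IsLocalization.exists_mk'_eq x0.primeCompl q
    obtain ⟨pa, hpa⟩ := hA0 a i
    obtain ⟨ps, hps⟩ := hA0 s i
    have hsu : IsUnit (algebraMap A0 C' (s : A0)) := IsLocalization.map_units C' s
    have hpu : IsUnit (algebraMap C C' ps) := by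
      by_contra hn
      have h1 : algebraMap C C' ps ∈ maximalIdeal C' := (mem_maximalIdeal _).2 hn
      have h2 := Ideal.add_mem _ (Ideal.pow_le_self hi.ne' hps) h1
      rw [sub_add_cancel] at h2
      exact (mem_maximalIdeal _).1 h2 hsu
    obtain ⟨r, hr⟩ := (isUnit_of_map_unit (algebraMap C C') ps hpu).exists_right_inv
    refine ⟨pa * r, ?_⟩
    have hr' : algebraMap C C' ps * algebraMap C C' r = 1 := by rw [← map_mul, hr, map_one]
    have hq : IsLocalization.mk' C' a s * algebraMap A0 C' (s : A0) = algebraMap A0 C' a :=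
      IsLocalization.mk'_spec C' a s
    have key : IsLocalization.mk' C' a s - algebraMap C C' (pa * r) =
        ((algebraMap A0 C' a - algebraMap C C' pa) -
          IsLocalization.mk' C' a s * (algebraMap A0 C' (s : A0) - algebraMap C C' ps)) * algebraMap C C' r := by
      rw [map_mul]
      linear_combination (-(IsLocalization.mk' C' a s)) * hr' + (algebraMap C C' r) * hq
    rw [key]
    exact Ideal.mul_mem_right _ _ (Ideal.sub_mem _ hpa (Ideal.mul_mem_left _ _ hps))
  have hres' : ∀ q : C', ∃ p : C, q - algebraMap C C' p ∈ maximalIdeal C' := fun q => by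
    simpa using hC q 1
  have hm : (maximalIdeal C).map (algebraMap C C') = maximalIdeal C' := by
    refine le_antisymm (Ideal.map_le_iff_le_comap.2 fun z hz => (mem_maximalIdeal _).2 fun hu =>
      (mem_maximalIdeal z).1 hz (isUnit_of_map_unit (algebraMap C C') z hu)) ?_
    refine Submodule.le_of_le_smul_of_le_jacobson_bot (IsNoetherian.noetherian (maximalIdeal C'))
      (maximalIdeal_le_jacobson ⊥) fun z hz => ?_
    obtain ⟨p, hp⟩ := hC z 2
    have hpm : p ∈ maximalIdeal C := (mem_maximalIdeal p).2 fun hu => by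
      have h1 := Ideal.sub_mem _ hz (Ideal.pow_le_self (two_ne_zero) hp)
      rw [sub_sub_cancel] at h1
      exact (mem_maximalIdeal _).1 h1 (hu.map (algebraMap C C'))
    rw [← sub_add_cancel z (algebraMap C C' p)]
    refine Submodule.add_mem_sup (Ideal.mem_map_of_mem _ hpm) ?_ |> fun h => by rwa [add_comm]
    rw [smul_eq_mul, ← pow_two]
    exact hp
  have hinjC : ∀ i : ℕ, ∃ N : ℕ, ∀ p : C, algebraMap C C' p ∈ maximalIdeal C' ^ N → p ∈ maximalIdeal C ^ i := by
    intro i
    obtain ⟨N, hN⟩ := hinj0 i
    refine ⟨N, fun p hp => ?_⟩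
    obtain ⟨c, s, rfl⟩ := IsLocalization.exists_mk'_eq y0.primeCompl p
    refine (Ideal.mul_unit_mem_iff_mem _ (IsLocalization.map_units C s)).1 ?_
    rw [IsLocalization.mk'_spec]
    refine Ideal.mem_comap.1 ((IsLocalization.AtPrime.under_maximalIdeal_pow y0 C i).symm ▸ hN c ?_ :)
    rw [← IsLocalization.AtPrime.under_maximalIdeal_pow x0 C' N, Ideal.under, Ideal.mem_comap, ← hCC,
      ← IsLocalization.mk'_spec C c s, map_mul]
    exact Ideal.mul_mem_right _ _ hp
  haveI : Module.Flat C C' := flat_of_mod_pow hm hres' hinjC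
  haveI : Module.Flat B0 C' := Module.Flat.trans B0 C C'
  haveI : Algebra.IsUnramifiedAt B0 x0 := by
    refine (Algebra.isUnramifiedAt_iff_map_eq B0 y0 x0).2 ⟨⟨fun z => ?_⟩, ?_⟩
    · obtain ⟨q, rfl⟩ := IsLocalRing.residue_surjective z
      obtain ⟨p, hp⟩ := hres' q
      have : residue C' q = algebraMap (ResidueField C) (ResidueField C') (residue C p) := by
        change residue C' q = residue C' (algebraMap C C' p)
        exact Ideal.Quotient.eq.2 hp
      rw [this]
      exact isSeparable_algebraMap _
    · rw [← hm, ← Localization.AtPrime.map_eq_maximalIdeal, Ideal.map_map, ← IsScalarTower.algebraMap_eq]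
  exact Groth.L05.SmoothCrit.isEtaleAt_of_unramified_of_flat x0

end Groth.L09.InvEtale
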